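import Cfsg.Agent.H841.PiBS.Par
import Cfsg.Agent.KFacts.M24Two.Syl
import Cfsg.Agent.QTNorm.SporJ4
import Cfsg.Agent.H861.PiS.Ext

/-!
# S3876: `Good π M24` (helper841)

`DT π M24` and `2, 3 ∈ π` imply that `M24` is a π-group: the four minimal parabolics over `T = UT5(2)` generate elements of
order 5, 7, 11, 23.
-/

set_option autoImplicit false

namespace Cfsg.Agent.H841.PiBS.M24

open Cfsg Cfsg.Agent.SporadicA.GolayBase Cfsg.Agent.SporadicA.GolayPerm
open Cfsg.Agent.SporadicStructure.M24El Cfsg.Agent.KFacts.M24Two.Tool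
open Cfsg.Agent.KFacts.M24Two.Chain Cfsg.Agent.KFacts.M24Pair.Letters Cfsg.Agent.KFacts.M24Two.CentZ
open Cfsg.Agent.H841.PiBS

/-! ### The Sylow 2-subgroup -/

/-- conjugates of the letters of `rs` by the word `g` -/
def cjOk (rs : List ℕ) (g : List ℕ) (ws : List (List ℕ)) : Bool :=
  (List.range rs.length).all fun i => weqb (g ++ [rs.getD i 0]) (ws.getD i [] ++ g) &&
    (ws.getD i []).all fun k => rs.any fun r => Nat.beq k r

theorem cj_mem {rs : List ℕ} {g : List ℕ} {ws : List (List ℕ)} (h : cjOk rs g ws = true) :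
    ∀ q ∈ cl rs, ev g * q * (ev g)⁻¹ ∈ cl rs := by
  intro q hq
  refine conj_mem_cl (fun r hr => ?_) hq
  obtain ⟨i, hi, rfl⟩ := List.mem_iff_getElem.1 hr
  have h1 := List.all_eq_true.1 h i (List.mem_range.2 hi)
  rw [Bool.and_eq_true] at h1
  have h2 := conj_of_weq h1.1
  rw [List.getD_eq_getElem _ _ hi, ev_singleton] at h2
  rw [h2]
  refine ev_mem_cl fun k hk => ?_
  have h3 := List.all_eq_true.1 h1.2 k hk
  obtain ⟨r, hr, h4⟩ := List.any_eq_true.1 h3
  rw [Nat.eq_of_beq_eq_true h4]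
  exact hr

/-- conjugates of the letters `k+1, …, 9` by the letter `k` -/
def tU : List (List (List ℕ)) := 
  [[[1], [2], [3], [1, 4], [2, 5], [3, 6], [7], [8], [9]], [[2], [3], [4], [5], [6], [2, 7], [3, 8], [9]],
  [[3], [4], [5], [6], [7], [8], [3, 9]], [[4], [5], [6], [7], [8], [9]], [[5], [6], [5, 7], [6, 8], [9]],
  [[6], [7], [8], [6, 9]], [[7], [8], [9]], [[8], [8, 9]], [[9]], []]

theorem tU_ok : ((List.range 10).all fun k => cjOk ((List.range 10).drop (k + 1)) [k] (tU.getD k [])) = true := by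
  decide +kernel

theorem isPGroup_zpowers {G : Type*} [Group G] {g : G} (h : g * g = 1) : IsPGroup 2 (Subgroup.zpowers g) := by
  rintro ⟨x, k, rfl⟩
  refine ⟨1, Subtype.ext ?_⟩
  show (g ^ k) ^ (2 ^ 1) = 1
  rw [pow_one, ← zpow_natCast, ← zpow_mul, mul_comm, zpow_mul]
  have h1 : g ^ ((2 : ℕ) : ℤ) = 1 := by rw [zpow_natCast, pow_two]; exact h
  rw [h1, one_zpow]

theorem isPGroup_drop (n : ℕ) : IsPGroup 2 (cl ((List.range 10).drop (10 - n))) := by
  have : Fact (Nat.Prime 2) := ⟨Nat.prime_two⟩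
  induction n with
  | zero =>
    have h1 : cl ((List.range 10).drop (10 - 0)) = ⊥ := by
      rw [show (List.range 10).drop (10 - 0) = [] by decide]
      rw [eq_bot_iff]
      exact cl_le fun r hr => absurd hr List.not_mem_nil
    rw [h1]
    exact IsPGroup.of_bot
  | succ n ih =>
    rcases Nat.lt_or_ge n 10 with hn | hn
    · have h0 : (List.range 10).drop (10 - (n + 1)) = (10 - (n + 1)) :: (List.range 10).drop (10 - n) := by
        interval_cases n <;> decide
      have h1 := List.all_eq_true.1 tU_ok (10 - (n + 1)) (List.mem_range.2 (by omega))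
      rw [show 10 - (n + 1) + 1 = 10 - n by omega] at h1
      have h2 := cj_mem h1
      have h3 : IsPGroup 2 (Subgroup.zpowers (ev [10 - (n + 1)]) ⊔ cl ((List.range 10).drop (10 - n)) : Subgroup M24) := by
        refine IsPGroup.to_sup_of_normal_right' ?_ ih ?_
        · refine isPGroup_zpowers ?_
          rw [ev_singleton]
          exact xx_sq (by omega)
        · rw [Subgroup.zpowers_le]
          exact mem_normalizer_of_conj h2
      refine h3.to_le (cl_le fun r hr => ?_)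
      rw [h0] at hr
      rcases List.mem_cons.1 hr with rfl | hr
      · rw [← ev_singleton]
        exact Subgroup.mem_sup_left (Subgroup.mem_zpowers _)
      · exact Subgroup.mem_sup_right (xx_mem hr)
    · rwa [show 10 - (n + 1) = 10 - n by omega]

/-- words of the stabiliser chain -/
def lvw : List (ℕ × List (List ℕ)) := 
  [(0, [[], [0], [1], [2], [3], [1, 0], [2, 0], [3, 0], [2, 1], [3, 1], [3, 2], [2, 1, 0], [3, 1, 0], [3, 2,
  0], [3, 2, 1], [3, 2, 1, 0]]), (4, [[], [4, 1], [5, 2], [6, 3], [9, 5, 2], [1, 7, 4], [1, 8, 4], [9, 1, 7,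
  4]]), (6, [[], [9], [7, 2], [8, 3], [9, 7, 2], [9, 8, 3], [7, 2, 9], [1, 8, 7, 1]])]

/-- levels of the stabiliser chain -/
def lvT : List (ℕ × List ℕ) := lvw.map fun e => (e.1, e.2.map (prodW gx))

theorem lvT_ok : chkLv [] lvT = true := by decide +kernel

theorem lwT_ok : chkW gx (lvT.flatMap Prod.snd) (lvw.flatMap Prod.snd) = true := by decide +kernel

theorem lvw_lt : ((lvw.flatMap Prod.snd).all fun w => w.all fun k => Nat.blt k 10) = true := by decide +kernel

theorem lvT_sz : sz lvT = 1024 := by decide +kernel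

/-- `T = ⟨X i j⟩` -/
noncomputable def T : Subgroup M24 := cl (List.range 10)

theorem isPGroup_T : IsPGroup 2 T := isPGroup_drop 10

theorem card_ge : 1024 ≤ Nat.card T := by
  have h1 := sz_le_aux T lvT [] (by simp) lvT_ok (by
    intro e he t ht
    obtain ⟨w, hw, rfl⟩ := exists_word lwT_ok t (List.mem_flatMap.2 ⟨e, he, ht⟩)
    rw [el_prodW_eq]
    refine ev_mem_cl fun k hk => List.mem_range.2 ?_
    have h2 := List.all_eq_true.1 (List.all_eq_true.1 lvw_lt w hw) k hk
    exact Nat.blt_eq.mp h2)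
  rw [lvT_sz] at h1
  refine h1.trans (le_of_eq ?_)
  refine Nat.card_congr (Equiv.subtypeEquivRight fun g => ?_)
  simp

theorem card_T : Nat.card T = 1024 := by
  have : Fact (Nat.Prime 2) := ⟨Nat.prime_two⟩
  obtain ⟨n, hn⟩ := IsPGroup.iff_card.1 isPGroup_T
  have h1 : 2 ^ n ∣ 244823040 := by
    rw [← hn, ← SporadicA.M24Trans.card_M24]
    exact Subgroup.card_subgroup_dvd_card T
  have h2 : n ≤ 10 := by
    by_contra hc
    have h3 : 2 ^ 11 ∣ 244823040 := (pow_dvd_pow 2 (by omega)).trans h1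
    norm_num at h3
  have h3 := card_ge
  rw [hn] at h3 ⊢
  have h4 : 10 ≤ n := by
    by_contra hc
    have h5 : 2 ^ n ≤ 2 ^ 9 := Nat.pow_le_pow_right (by norm_num) (by omega)
    omega
  rw [le_antisymm h2 h4]
  norm_num

/-- `T` as a Sylow 2-subgroup -/
theorem exists_sylow : ∃ S : Sylow 2 M24, (S : Subgroup M24) = T := by
  have : Fact (Nat.Prime 2) := ⟨Nat.prime_two⟩
  refine ⟨isPGroup_T.toSylow ?_, rfl⟩
  have h1 := Subgroup.card_mul_index T
  rw [card_T, SporadicA.M24Trans.card_M24] at h1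
  omega

/-! ### The four parabolics -/

/-- the letters of the unipotent radical -/
def rad (k : ℕ) : List ℕ := (List.range 10).filter fun j => !(Nat.beq j k)

/-- `(t, y, conjugates by t, conjugates by y)` -/
def par : List (ℕ × List ℕ × List (List ℕ) × List (List ℕ)) := 
  [(0, [12], [[1], [2], [3], [1, 4], [2, 5], [3, 6], [7], [8], [9]], [[4], [5], [6], [1, 4], [2, 5], [3, 6],
  [3, 6, 7], [2, 3, 5, 6, 8], [1, 3, 4, 6, 9]]), (4, [4, 10], [[0, 1], [1], [2], [3], [5], [6], [5, 7], [6,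
  8], [9]], [[0, 1], [0], [2], [3], [7], [8], [5, 7], [6, 8], [9]]), (7, [7, 11], [[0], [1, 2], [2], [3], [4,
  5], [5], [6], [8], [8, 9]], [[0], [1, 2], [1], [3], [4, 5], [4], [6], [9], [8, 9]]), (9, [14], [[0], [1],
  [2, 3], [3], [4], [5, 6], [6], [7, 8], [8]], [[0], [1], [2, 3], [2], [4], [5, 6], [5], [7, 8], [7]])]

theorem par_ok : (par.all fun p => Nat.blt p.1 10 && weqb (p.2.1 ++ p.2.1 ++ p.2.1) [] &&
    weqb ([p.1] ++ p.2.1 ++ [p.1] ++ p.2.1) [] && cjOk (rad p.1) [p.1] p.2.2.1 && cjOk (rad p.1) p.2.1 p.2.2.2) =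
    true := by decide +kernel

theorem mem_par {π : Set ℕ} (h2 : 2 ∈ π) (h3 : 3 ∈ π) {H : Subgroup M24}
    (hU : ∀ U : Subgroup M24, IsPiSubgroup π U → T ≤ U → U ≤ H) {p : ℕ × List ℕ × List (List ℕ) × List (List ℕ)}
    (hp : p ∈ par) : ev p.2.1 ∈ H := by
  have : Fact (Nat.Prime 2) := ⟨Nat.prime_two⟩
  have h := List.all_eq_true.1 par_ok p hp
  simp only [Bool.and_eq_true] at h
  obtain ⟨⟨⟨⟨h1, h4⟩, h5⟩, h6⟩, h7⟩ := h
  have h1' : p.1 < 10 := Nat.blt_eq.mp h1
  have hle : cl (rad p.1) ≤ T := cl_le fun r hr => xx_mem (List.mem_filter.1 hr).1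
  refine mem_of_par h2 h3 (T := T) (H := H) (Q := cl (rad p.1)) (t := ev [p.1]) hU
    (isPi_of_pGroup h2 (isPGroup_T.to_le hle)) ?_ ?_ ?_ (cj_mem h6) (cj_mem h7) ?_
  · rw [ev_singleton]
    exact xx_sq (by omega)
  · have h8 := weq h4
    rwa [ev_append, ev_append, ev_nil] at h8
  · have h8 := weq h5
    rwa [ev_append, ev_append, ev_append, ev_nil] at h8
  · refine cl_le fun r hr => ?_
    by_cases hrp : r = p.1
    · rw [hrp, ← ev_singleton]
      exact Subgroup.mem_sup_right (Subgroup.mem_zpowers _)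
    · refine Subgroup.mem_sup_left (xx_mem (List.mem_filter.2 ⟨hr, ?_⟩))
      rw [Bool.not_eq_true', ← Bool.not_eq_true]
      exact fun h => hrp (Nat.eq_of_beq_eq_true h)

/-- words for elements of order 5, 7, 11, 23 -/
def ords : List (ℕ × List ℕ) := [(5, [10, 12]), (7, [7, 14, 11]), (11, [10, 11, 12]), (23, [10, 11, 14, 12])]

/-- the power of a word -/
def rep (w : List ℕ) : ℕ → List ℕ
  | 0 => []
  | n + 1 => w ++ rep w n

theorem ev_rep (w : List ℕ) (n : ℕ) : ev (rep w n) = ev w ^ n := by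
  induction n with
  | zero => rw [rep, ev_nil, pow_zero]
  | succ n ih => rw [rep, ev_append, ih, pow_succ']

theorem ords_ok : (ords.all fun p => weqb (rep p.2 p.1) [] && ((List.range 24).any fun i =>
    !(Nat.beq (papp (prodW gx p.2) i) (papp (prodW gx []) i))) && p.2.all fun k => Nat.beq k 7 || Nat.beq k 10 ||
      Nat.beq k 11 || Nat.beq k 12 || Nat.beq k 14) = true := by decide +kernel

theorem all_mem {π : Set ℕ} (h2 : 2 ∈ π) (h3 : 3 ∈ π) {H : Subgroup M24} (hH : IsPiSubgroup π H)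
    (hU : ∀ U : Subgroup M24, IsPiSubgroup π U → T ≤ U → U ≤ H) : 5 ∈ π ∧ 7 ∈ π ∧ 11 ∈ π ∧ 23 ∈ π := by
  have : Fact (Nat.Prime 2) := ⟨Nat.prime_two⟩
  have hT : T ≤ H := hU T (isPi_of_pGroup h2 isPGroup_T) le_rfl
  have hl : ∀ k < 10, xx k ∈ H := fun k hk => hT (xx_mem (List.mem_range.2 hk))
  have h12 : xx 12 ∈ H := by
    have h := mem_par h2 h3 hU (p := par.getD 0 (0, [], [], [])) (by
      rw [List.getD_eq_getElem _ _ (by decide)]; exact List.getElem_mem _)
    rw [← ev_singleton]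
    exact h
  have h14 : xx 14 ∈ H := by
    have h := mem_par h2 h3 hU (p := par.getD 3 (0, [], [], [])) (by
      rw [List.getD_eq_getElem _ _ (by decide)]; exact List.getElem_mem _)
    rw [← ev_singleton]
    exact h
  have h10 : xx 10 ∈ H := by
    have h := mem_par h2 h3 hU (p := par.getD 1 (0, [], [], [])) (by
      rw [List.getD_eq_getElem _ _ (by decide)]; exact List.getElem_mem _)
    have h' : ev [4, 10] ∈ H := h
    rw [ev_cons, ev_singleton] at h'
    exact (Subgroup.mul_mem_cancel_left H (hl 4 (by norm_num))).1 h'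
  have h11 : xx 11 ∈ H := by
    have h := mem_par h2 h3 hU (p := par.getD 2 (0, [], [], [])) (by
      rw [List.getD_eq_getElem _ _ (by decide)]; exact List.getElem_mem _)
    have h' : ev [7, 11] ∈ H := h
    rw [ev_cons, ev_singleton] at h'
    exact (Subgroup.mul_mem_cancel_left H (hl 7 (by norm_num))).1 h'
  have key : ∀ p ∈ ords, p.1.Prime → p.1 ∈ π := by
    intro p hp hpp
    have h := List.all_eq_true.1 ords_ok p hp
    simp only [Bool.and_eq_true] at h
    obtain ⟨⟨h4, h5⟩, h6⟩ := h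
    have h7 := weq h4
    rw [ev_rep, ev_nil] at h7
    have h8 := wne h5
    rw [ev_nil] at h8
    refine mem_pi_of_orderOf hH (ev_mem fun k hk => ?_) hpp h7 h8
    have h9 := List.all_eq_true.1 h6 k hk
    simp only [Bool.or_eq_true, Nat.beq_eq] at h9
    rcases h9 with (((h9 | h9) | h9) | h9) | h9
    · rw [h9]; exact hl 7 (by norm_num)
    · rw [h9]; exact h10
    · rw [h9]; exact h11
    · rw [h9]; exact h12
    · rw [h9]; exact h14
  refine ⟨key (5, [10, 12]) (by simp [ords]) (by norm_num), key (7, [7, 14, 11]) (by simp [ords]) (by norm_num),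
    key (11, [10, 11, 12]) (by simp [ords]) (by norm_num), key (23, [10, 11, 14, 12]) (by simp [ords]) (by norm_num)⟩

theorem primes {p : ℕ} (hp : p.Prime) (hd : p ∣ Nat.card M24) :
    p = 2 ∨ p = 3 ∨ p = 5 ∨ p = 7 ∨ p = 11 ∨ p = 23 := by
  rw [SporadicA.M24Trans.card_M24] at hd
  have h1 : p ∣ 2 ^ 10 * (3 ^ 3 * (5 * (7 * (11 * 23)))) := by norm_num; exact hd
  rcases hp.dvd_mul.1 h1 with h | h1
  · exact Or.inl ((Nat.prime_dvd_prime_iff_eq hp Nat.prime_two).1 (hp.dvd_of_dvd_pow h))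
  rcases hp.dvd_mul.1 h1 with h | h1
  · exact Or.inr (Or.inl ((Nat.prime_dvd_prime_iff_eq hp Nat.prime_three).1 (hp.dvd_of_dvd_pow h)))
  rcases hp.dvd_mul.1 h1 with h | h1
  · exact Or.inr (Or.inr (Or.inl ((Nat.prime_dvd_prime_iff_eq hp (by norm_num)).1 h)))
  rcases hp.dvd_mul.1 h1 with h | h1
  · exact Or.inr (Or.inr (Or.inr (Or.inl ((Nat.prime_dvd_prime_iff_eq hp (by norm_num)).1 h))))
  rcases hp.dvd_mul.1 h1 with h | h1
  · exact Or.inr (Or.inr (Or.inr (Or.inr (Or.inl ((Nat.prime_dvd_prime_iff_eq hp (by norm_num)).1 h)))))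
  · exact Or.inr (Or.inr (Or.inr (Or.inr (Or.inr ((Nat.prime_dvd_prime_iff_eq hp (by norm_num)).1 h1)))))

/-- **`Good π M24`** -/
theorem good {π : Set ℕ} (h2 : 2 ∈ π) (h3 : 3 ∈ π) : H861.PiS.Good π M24 := by
  intro hD p hp hd
  obtain ⟨S, hS⟩ := exists_sylow
  have : Fact (Nat.Prime 2) := ⟨Nat.prime_two⟩
  have hN : IsPiSubgroup π (Subgroup.normalizer ((S : Subgroup M24) : Set M24)) := by
    have h1 : Subgroup.normalizer ((S : Subgroup M24) : Set M24) = S :=
      le_antisymm (QTNorm.selfN_m24 (G := M24) ⟨MulEquiv.refl _⟩ S) Subgroup.le_normalizer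
    rw [h1]
    exact isPi_of_pGroup h2 S.isPGroup'
  obtain ⟨H, hH, hU⟩ := hD.exists_ge S hN
  rw [hS] at hU
  obtain ⟨h5, h7, h11, h23⟩ := all_mem h2 h3 hH.pi hU
  rcases primes hp hd with rfl | rfl | rfl | rfl | rfl | rfl
  · exact h2
  · exact h3
  · exact h5
  · exact h7
  · exact h11
  · exact h23

end Cfsg.Agent.H841.PiBS.M24
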