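import Cfsg.Agent.H841.PiBS.Fi
import Cfsg.Agent.H571.DExtB
import Cfsg.Agent.H715.Fpr.MathData
import Cfsg.Agent.NotCT.Orders
import Cfsg.Agent.R01.Fi22Facts

/-!
# TEAM RV: no Hall `{2,p}`-subgroups in `Fi22` (helper841)

`no2_fi22` : `¬ Dom {2, p} S` for `S ≅ Fi22`, `p ≥ 5` a prime divisor of `|S|`.
-/

set_option autoImplicit false

namespace Cfsg.Agent.H841.PiBS.NoTwo

open Cfsg Subgroup
open Cfsg.Agent.H841.PiBS Cfsg.Agent.H836.Thompson

universe u

theorem exists_normalizer_of_odd {K : Type u} [Group K] [Finite K] {T : Set K} {n m : ℕ} {E : Subgroup K}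
    (J : JData T n m E) (hT : IsThreeTranspositionSet T) {H : Subgroup K} (h2 : ¬ 2 ∣ H.index)
    (h3 : ¬ 3 ∣ Nat.card H) :
    ∃ g : K, H ≤ normalizer ((E.map (MulAut.conj g).toMonoidHom : Subgroup K) : Set K) := by
  have hF2 : Fact (Nat.Prime 2) := ⟨Nat.prime_two⟩
  obtain ⟨P, hP⟩ := exists_sylow_le (r := 2) h2
  obtain ⟨g, J', h1, h4⟩ := J.exists_sylow' P
  refine ⟨g, ?_⟩
  generalize E.map (MulAut.conj g).toMonoidHom = E' at J' h1 h4
  have hsq : ∀ x ∈ T, x * x = 1 := fun x hx => by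
    rw [← pow_two, ← hT.1 x hx, pow_orderOf_eq_one]
  -- transpositions of `H` commute
  have hcom : ∀ x, x ∈ T ∧ x ∈ H → ∀ y, y ∈ T ∧ y ∈ H → x * y = y * x := by
    rintro x ⟨hx, hxH⟩ y ⟨hy, hyH⟩
    have hxx := hsq x hx
    have hyy := hsq y hy
    have hxi : x⁻¹ = x := inv_eq_of_mul_eq_one_left hxx
    have hyi : y⁻¹ = y := inv_eq_of_mul_eq_one_left hyy
    have h6 : (x * y) ^ 2 = 1 → x * y = y * x := by
      intro h
      have h7 : (x * y)⁻¹ = x * y := inv_eq_of_mul_eq_one_left (by rw [← pow_two]; exact h)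
      rw [← h7, mul_inv_rev, hxi, hyi]
    rcases hT.2 x hx y hy with h | h
    · exact h6 h
    · have h8 : orderOf (x * y) ∣ Nat.card H := orderOf_dvd_natCard H (mul_mem hxH hyH)
      have h9 : x * y = 1 := by
        rcases (Nat.dvd_prime Nat.prime_three).1 (orderOf_dvd_of_pow_eq_one h) with h10 | h10
        · exact orderOf_eq_one_iff.1 h10
        · rw [h10] at h8; exact absurd h8 h3
      exact h6 (by rw [h9, one_pow])
  set F := closure {x | x ∈ T ∧ x ∈ H} with hF
  have hc1 : ∀ x ∈ F, ∀ y, y ∈ T ∧ y ∈ H → x * y = y * x := by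
    intro x hx y hy
    refine closure_induction (p := fun x _ => x * y = y * x) (fun x hx => hcom x hx y hy) (by simp)
      (fun a b _ _ ha hb => by rw [mul_assoc, hb, ← mul_assoc, ha, mul_assoc]) (fun a _ ha => ?_) hx
    rw [inv_mul_eq_iff_eq_mul, ← mul_assoc, ha, mul_assoc, mul_inv_cancel, mul_one]
  have hc2 : ∀ x ∈ F, ∀ y ∈ F, x * y = y * x := by
    intro x hx y hy
    refine closure_induction (p := fun y _ => x * y = y * x) (fun y hy => hc1 x hx y hy) (by simp)
      (fun a b _ _ ha hb => by rw [← mul_assoc, ha, mul_assoc, hb, ← mul_assoc]) (fun a _ ha => ?_) hy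
    rw [eq_inv_mul_iff_mul_eq, ← mul_assoc, ← ha, mul_assoc, mul_inv_cancel, mul_one]
  have hFs : ∀ x ∈ F, x * x = 1 := by
    intro x hx
    refine closure_induction (p := fun x _ => x * x = 1) (fun x hx => hsq x hx.1) (one_mul 1)
      (fun a b ha hb h h' => ?_) (fun a _ ha => ?_) hx
    · have e := hc2 a ha b hb
      calc a * b * (a * b) = (a * b) * (b * a) := by rw [e]
        _ = a * (b * b) * a := by group
        _ = 1 := by rw [h', mul_one, h]
    · rw [← mul_inv_rev, ha, inv_one]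
  have hEF : E' ≤ F := by
    rw [← J'.gen]
    exact closure_mono fun x hx => ⟨hx.1, hP (h1 hx.2)⟩
  have hFN : F ≤ normalizer (E' : Set K) := by
    intro x hx
    refine mem_normalizer_of_conj fun q hq => ?_
    rwa [hc2 x hx q (hEF hq), mul_inv_cancel_right]
  have hFE : F = E' := J'.uniq F hFN hFs (by rw [← J'.card]; exact card_le_of_le hEF)
  intro h hh
  rw [← hFE]
  refine mem_normalizer_of_conj fun q hq => ?_
  have h11 : F ≤ F.comap (MulAut.conj h).toMonoidHom := by
    rw [hF, closure_le]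
    rintro x ⟨hx, hxH⟩
    exact subset_closure ⟨J'.conj x hx h, mul_mem (mul_mem hh hxH) (inv_mem hh)⟩
  exact h11 hq

/-- Sylow's theorem in a subgroup of order `k p` -/
theorem no_sub {G : Type*} [Group G] [Finite G] {p N k : ℕ} (hp : p.Prime)
    (hN : ∀ R : Subgroup G, Nat.card R = p → Nat.card (normalizer (R : Set G)) = N) (hkp : ¬ p ^ 2 ∣ k * p)
    (chk : ∀ m n : ℕ, m ∣ N → m * n = k * p → n % p ≠ 1 % p) {M : Subgroup G} (hM : Nat.card M = k * p) : False := by
  have hF : Fact p.Prime := ⟨hp⟩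
  obtain ⟨P⟩ : Nonempty (Sylow p M) := inferInstance
  have hPc : Nat.card (P : Subgroup M) = p := by
    obtain ⟨n, hn⟩ := IsPGroup.iff_card.1 P.isPGroup'
    have h1 : p ∣ Nat.card (P : Subgroup M) := P.dvd_card_of_dvd_card (by rw [hM]; exact Dvd.intro_left _ rfl)
    have h2 : Nat.card (P : Subgroup M) ∣ k * p := by rw [← hM]; exact card_subgroup_dvd_card _
    rw [hn] at h1 h2 ⊢
    rcases n with _ | _ | n
    · rw [pow_zero] at h1; exact absurd (Nat.dvd_one.1 h1) hp.one_lt.ne'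
    · rw [zero_add, pow_one]
    · exact absurd ((pow_dvd_pow p (by omega)).trans h2) hkp
  have h1 := card_sylow_modEq_one p M
  rw [Sylow.card_eq_index_normalizer P] at h1
  have h2 := Subgroup.card_mul_index (normalizer ((P : Subgroup M) : Set M))
  rw [hM] at h2
  refine chk _ _ ?_ h2 h1
  set R : Subgroup G := (P : Subgroup M).map M.subtype with hR
  have hRc : Nat.card R = p := by
    rw [← hPc]
    exact (Nat.card_congr ((P : Subgroup M).equivMapOfInjective _ M.subtype_injective).toEquiv).symm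
  rw [← hN R hRc]
  have h3 : (normalizer ((P : Subgroup M) : Set M)).map M.subtype ≤ normalizer (R : Set G) := by
    rintro _ ⟨x, hx, rfl⟩
    refine mem_normalizer_of_conj ?_
    rintro _ ⟨y, hy, rfl⟩
    exact ⟨x * y * x⁻¹, (mem_normalizer_iff.1 hx y).1 hy, by simp⟩
  have h4 := card_dvd_of_le h3
  rwa [← Nat.card_congr ((normalizer ((P : Subgroup M) : Set M)).equivMapOfInjective _
    M.subtype_injective).toEquiv] at h4

/-! ### `Fi22` -/

open Cfsg.Agent.H836.JFi22 (E z0_mem)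
open Cfsg.Agent.KFacts.FiTTh Cfsg.Agent.KFacts.FiTTh.BasDef
open Cfsg.Agent.Fischer.Fi23Z (z0)
open Cfsg.Agent.R08 (FlagData.pi')
open Cfsg.Agent.H841.PiBS.Fi (N0 C0 exists_phi)

theorem comap_normalizer : (normalizer (E : Set Spor.Fi22)).comap R08.FlagData.pi' = N0 := by
  have := BasInv.finite
  have hl := R08.FlagData.lifted
  have hA : A BasFi.e ≤ C0 := H836.Thompson.JData.le_cent H836.JFi23.jdata z0_mem
  have hE : E.comap R08.FlagData.pi' = (A BasFi.e).subgroupOf C0 := by
    rw [E, comap_map_eq]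
    refine sup_eq_left.2 fun x hx => ?_
    rcases (hl.ext.ker x).1 hx with rfl | rfl
    · exact one_mem _
    · exact mem_subgroupOf.2 z0_mem
  rw [comap_normalizer_eq_of_surjective _ hl.ext.surj, hE]
  exact (subgroupOf_normalizer_eq hA).symm

theorem eq_of_hall {m i a b : ℕ} (h : m * i = a * b) (ha : Nat.Coprime a i) (hb : Nat.Coprime m b) : m = a := by
  have h1 : a ∣ m * i := ⟨b, h⟩
  have h2 : m ∣ a * b := ⟨i, h.symm⟩
  exact Nat.dvd_antisymm (hb.dvd_of_dvd_mul_right h2) (ha.dvd_of_dvd_mul_right h1)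

theorem coprime_of_primes {m b : ℕ} {π : Set ℕ} (hm : ∀ q : ℕ, q.Prime → q ∣ m → q ∈ π)
    (hb : ∀ q : ℕ, q.Prime → q ∈ π → ¬ q ∣ b) : Nat.Coprime m b := by
  rw [Nat.coprime_iff_gcd_eq_one]
  by_contra h
  obtain ⟨q, hq, hd⟩ := Nat.exists_prime_and_dvd h
  exact hb q hq (hm q hq (hd.trans (Nat.gcd_dvd_left _ _))) (hd.trans (Nat.gcd_dvd_right _ _))

/-- no Hall `{2,7}`- or `{2,11}`-subgroup in `M22` -/
theorem hall_m22 {p : ℕ} (hp7 : p = 7 ∨ p = 11) {M : Subgroup Spor.M22}
    (hM : IsPiSubgroup ({2, p} : Set ℕ) M) (h2 : ¬ 2 ∣ M.index) (hpi : ¬ p ∣ M.index) : False := by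
  have hc : Nat.card Spor.M22 = 443520 := Cfsg.Agent.SporadicA.MathieuRecog.card_M22
  have hfin : Finite Spor.M22 := Nat.finite_of_card_ne_zero (by rw [hc]; norm_num)
  have hmul := M.card_mul_index
  rw [hc] at hmul
  rcases hp7 with rfl | rfl
  · have h1 : Nat.card M = 2 ^ 7 * 7 := by
      refine eq_of_hall (i := M.index) (b := 495) (by rw [hmul]; norm_num) ?_ ?_
      · refine Nat.Coprime.mul_left (Nat.Coprime.pow_left _ ?_) ?_
        · exact (Nat.Prime.coprime_iff_not_dvd Nat.prime_two).2 h2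
        · exact (Nat.Prime.coprime_iff_not_dvd (by norm_num)).2 hpi
      · refine coprime_of_primes hM ?_
        rintro q - (rfl | rfl)
        · norm_num
        · norm_num
    refine no_sub (p := 7) (N := 21) (k := 2 ^ 7) (by norm_num) (fun R hR => (H715.Fpr.MathData.cn22_7 hR).2)
      (by norm_num) ?_ h1
    intro m n hm hmn
    have h3 : m ∈ Nat.divisors 21 := Nat.mem_divisors.2 ⟨hm, by norm_num⟩
    have h4 : Nat.divisors 21 = {1, 3, 7, 21} := by decide
    rw [h4] at h3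
    simp only [Finset.mem_insert, Finset.mem_singleton] at h3
    rcases h3 with rfl | rfl | rfl | rfl <;> omega
  · have h1 : Nat.card M = 2 ^ 7 * 11 := by
      refine eq_of_hall (i := M.index) (b := 315) (by rw [hmul]; norm_num) ?_ ?_
      · refine Nat.Coprime.mul_left (Nat.Coprime.pow_left _ ?_) ?_
        · exact (Nat.Prime.coprime_iff_not_dvd Nat.prime_two).2 h2
        · exact (Nat.Prime.coprime_iff_not_dvd (by norm_num)).2 hpi
      · refine coprime_of_primes hM ?_
        rintro q - (rfl | rfl)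
        · norm_num
        · norm_num
    refine no_sub (p := 11) (N := 55) (k := 2 ^ 7) (by norm_num) (fun R hR => (H715.Fpr.MathData.cn22_11 hR).2)
      (by norm_num) ?_ h1
    intro m n hm hmn
    have h3 : m ∈ Nat.divisors 55 := Nat.mem_divisors.2 ⟨hm, by norm_num⟩
    have h4 : Nat.divisors 55 = {1, 5, 11, 55} := by decide
    rw [h4] at h3
    simp only [Finset.mem_insert, Finset.mem_singleton] at h3
    rcases h3 with rfl | rfl | rfl | rfl <;> omega

theorem hall_fi22 {p : ℕ} (hp : p.Prime) (h5 : 5 ≤ p) (hpd : p ∣ 64561751654400) {H : Subgroup Spor.Fi22}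
    (h2 : ¬ 2 ∣ H.index) (hpi : ¬ p ∣ H.index) (hH : IsPiSubgroup ({2, p} : Set ℕ) H) : False := by
  have := BasInv.finite
  have hl := R08.FlagData.lifted
  have hcard : Nat.card Spor.Fi22 = 64561751654400 := R01.Fi22Facts.card
  have hfin : Finite Spor.Fi22 := Nat.finite_of_card_ne_zero (by rw [hcard]; norm_num)
  have h3 : ¬ 3 ∣ Nat.card H := by
    intro h
    rcases hH 3 Nat.prime_three h with h' | h'
    · omega
    · have h'' : 3 = p := h'
      omega
  obtain ⟨g, hg⟩ := exists_normalizer_of_odd H836.JFi22.jdata R01.Fi22Facts.isThreeTranspositionClass_T.1 h2 h3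
  have hp2 : (2 : ℕ) ∈ ({2, p} : Set ℕ) := Or.inl rfl
  -- the conjugate in `N(E)`
  obtain ⟨H1, hH1, hi1, hle1⟩ : ∃ H1 : Subgroup Spor.Fi22, IsPiSubgroup ({2, p} : Set ℕ) H1 ∧
      H1.index = H.index ∧ H1 ≤ normalizer (E : Set Spor.Fi22) := by
    refine ⟨H.comap (MulAut.conj g).toMonoidHom, ?_, ?_, ?_⟩
    · refine isPi_comap _ (MulAut.conj g).surjective ?_ hH
      have h4 : (MulAut.conj g).toMonoidHom.ker = ⊥ :=
        (MonoidHom.ker_eq_bot_iff _).2 (MulAut.conj g).injective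
      rw [h4]
      intro q hq hd
      rw [card_bot] at hd
      exact absurd (Nat.dvd_one.1 hd) hq.one_lt.ne'
    · exact index_comap_of_surjective H (MulAut.conj g).surjective
    · intro x hx
      have h4 : g * x * g⁻¹ ∈ normalizer ((E.map (MulAut.conj g).toMonoidHom : Subgroup Spor.Fi22) : Set Spor.Fi22) :=
        hg hx
      rw [← map_equiv_normalizer_eq] at h4
      obtain ⟨y, hy, hyx⟩ := h4
      have h5 : y = x := (MulAut.conj g).injective hyx
      rwa [← h5]
  -- in `2.Fi22`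
  obtain ⟨C, hC⟩ : ∃ C : Subgroup C0, C = H1.comap R08.FlagData.pi' := ⟨_, rfl⟩
  have hCpi : IsPiSubgroup ({2, p} : Set ℕ) C := by
    rw [hC]
    refine isPi_comap _ hl.ext.surj (Fi.isPi_of_sq hp2 fun x hx => ?_) hH1
    rcases (hl.ext.ker x).1 hx with rfl | rfl
    · exact one_mul 1
    · exact hl.ext.zz
  have hCi : C.index = H.index := by rw [hC, index_comap_of_surjective _ hl.ext.surj, hi1]
  have hCN : C ≤ N0 := by
    rw [hC, ← comap_normalizer]
    exact comap_mono hle1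
  obtain ⟨φ, hφ, hk⟩ := exists_phi
  have hDi : (C.subgroupOf N0).index ∣ H.index := by
    rw [← hCi, ← relIndex_mul_index hCN]
    exact Dvd.intro _ rfl
  have hMi : ((C.subgroupOf N0).map φ).index ∣ H.index := (index_map_dvd _ hφ).trans hDi
  have hMp : IsPiSubgroup ({2, p} : Set ℕ) ((C.subgroupOf N0).map φ) := by
    refine isPi_map ?_ φ
    intro q hq hd
    refine hCpi q hq (hd.trans ?_)
    rw [Nat.card_congr (subgroupOfEquivOfLe hCN).toEquiv]
  -- orders
  have hN0 : Nat.card N0 = 443520 * Nat.card φ.ker := by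
    have h4 := card_comap_mul φ hφ ⊤
    rw [comap_top, card_top, card_top, Cfsg.Agent.SporadicA.MathieuRecog.card_M22] at h4
    exact h4
  have hker : IsPiSubgroup ({2} : Set ℕ) φ.ker := Fi.isPi_of_sq (Set.mem_singleton 2) (K := φ.ker) fun x hx => hk x hx
  have hdiv : ∀ a : ℕ, p ^ a ∣ 64561751654400 → p ^ a ∣ 443520 := by
    intro a ha
    have hp2' : ∀ n : ℕ, (∀ q : ℕ, q.Prime → q ∣ n → q ∈ ({2} : Set ℕ)) → Nat.Coprime (p ^ a) n := by
      intro n hn
      refine Nat.Coprime.pow_left _ ((Nat.Prime.coprime_iff_not_dvd hp).2 fun hd => ?_)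
      have : p = 2 := hn p hp hd
      omega
    have h4 : p ^ a ∣ Nat.card H := by
      rw [← hcard, ← H.card_mul_index] at ha
      exact (Nat.Coprime.pow_left _ ((Nat.Prime.coprime_iff_not_dvd hp).2 hpi)).dvd_of_dvd_mul_right ha
    have h5 : p ^ a ∣ Nat.card C := by
      have h6 : Nat.card C * C.index = Nat.card C0 := C.card_mul_index
      have h7 : Nat.card C0 = Nat.card Spor.Fi22 * Nat.card R08.FlagData.pi'.ker := by
        have h8 := card_comap_mul R08.FlagData.pi' hl.ext.surj ⊤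
        rwa [comap_top, card_top, card_top] at h8
      rw [hC, card_comap_mul _ hl.ext.surj]
      have h9 : Nat.card H1 = Nat.card H := by
        have e1 := H1.card_mul_index
        have e2 := H.card_mul_index
        rw [hi1, ← e2] at e1
        exact Nat.eq_of_mul_eq_mul_right (Nat.pos_of_ne_zero index_ne_zero_of_finite) e1
      rw [h9]
      exact h4.mul_right _
    have h10 : Nat.card C ∣ Nat.card N0 := card_dvd_of_le hCN
    have h11 := h5.trans h10
    rw [hN0] at h11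
    exact (hp2' _ hker).dvd_of_dvd_mul_right h11
  have h1 := hdiv 1 (by rwa [pow_one])
  rw [pow_one] at h1
  have h12 : p = 5 ∨ p = 7 ∨ p = 11 := by
    have h13 : (443520 : ℕ) = 2 ^ 7 * 3 ^ 2 * 5 * 7 * 11 := by norm_num
    rw [h13] at h1
    rcases hp.dvd_mul.1 h1 with h1 | h1
    · rcases hp.dvd_mul.1 h1 with h1 | h1
      · rcases hp.dvd_mul.1 h1 with h1 | h1
        · rcases hp.dvd_mul.1 h1 with h1 | h1
          · have := (Nat.prime_dvd_prime_iff_eq hp Nat.prime_two).1 (hp.dvd_of_dvd_pow h1); omega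
          · have := (Nat.prime_dvd_prime_iff_eq hp Nat.prime_three).1 (hp.dvd_of_dvd_pow h1); omega
        · exact Or.inl ((Nat.prime_dvd_prime_iff_eq hp (by norm_num)).1 h1)
      · exact Or.inr (Or.inl ((Nat.prime_dvd_prime_iff_eq hp (by norm_num)).1 h1))
    · exact Or.inr (Or.inr ((Nat.prime_dvd_prime_iff_eq hp (by norm_num)).1 h1))
  rcases h12 with rfl | h12
  · have := hdiv 2 (by norm_num)
    revert this
    norm_num
  · exact hall_m22 h12 hMp (fun h => h2 (h.trans hMi)) (fun h => hpi (h.trans hMi))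

/-- **No `D_{2,p}` in `Fi22`.** -/
theorem no2_fi22 {S : Type u} [Group S] [Finite S] (h : Spor.IsoFi22 S) {p : ℕ} (hp : p.Prime) (h5 : 5 ≤ p)
    (hpd : p ∣ Nat.card S) : ¬ Cfsg.Agent.H571.DExt.Dom ({2, p} : Set ℕ) S := by
  rintro ⟨L, hL, -⟩
  obtain ⟨e⟩ := h
  rw [Nat.card_congr e.toEquiv, R01.Fi22Facts.card] at hpd
  have hi : (L.map e.toMonoidHom).index = L.index := index_map_equiv L e
  refine hall_fi22 hp h5 hpd (H := L.map e.toMonoidHom) ?_ ?_ (isPi_map hL.1 _)
  · rw [hi]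
    exact hL.2 2 Nat.prime_two (Or.inl rfl)
  · rw [hi]
    exact hL.2 p hp (Or.inr rfl)

theorem no2_fi22_5 {S : Type u} [Group S] [Finite S] (h : Spor.IsoFi22 S) :
    ¬ Cfsg.Agent.H571.DExt.Dom ({2, 5} : Set ℕ) S :=
  no2_fi22 h (by norm_num) (by norm_num) (by rw [NotCT.Orders.fi22 h]; norm_num)

theorem no2_fi22_7 {S : Type u} [Group S] [Finite S] (h : Spor.IsoFi22 S) :
    ¬ Cfsg.Agent.H571.DExt.Dom ({2, 7} : Set ℕ) S :=
  no2_fi22 h (by norm_num) (by norm_num) (by rw [NotCT.Orders.fi22 h]; norm_num)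

theorem no2_fi22_11 {S : Type u} [Group S] [Finite S] (h : Spor.IsoFi22 S) :
    ¬ Cfsg.Agent.H571.DExt.Dom ({2, 11} : Set ℕ) S :=
  no2_fi22 h (by norm_num) (by norm_num) (by rw [NotCT.Orders.fi22 h]; norm_num)

theorem no2_fi22_13 {S : Type u} [Group S] [Finite S] (h : Spor.IsoFi22 S) :
    ¬ Cfsg.Agent.H571.DExt.Dom ({2, 13} : Set ℕ) S :=
  no2_fi22 h (by norm_num) (by norm_num) (by rw [NotCT.Orders.fi22 h]; norm_num)

end Cfsg.Agent.H841.PiBS.NoTwo
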