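import Cfsg.Agent.H841.PiBS.Par
import Cfsg.Agent.H868.SelfN23
import Cfsg.Agent.H861.PiS.Ext

/-!
# S3876: `Good π M22`, `Good π M23` (helper841)

`DT π M22` (or `M23`) and `2, 3 ∈ π` imply that the group is a π-group.
-/

set_option autoImplicit false

namespace Cfsg.Agent.H841.PiBS.M23

open Cfsg Subgroup Cfsg.Agent.Golay.Orbit Cfsg.Agent.Schreier.SylMTwentyTwo
open Cfsg.Agent.H841.PiBS

/-- the tables of the generators: those of `T`, and four elements of order 3 -/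
def tl : List (List ℕ) := gl ++ 
  [[0, 3, 5, 14, 4, 17, 21, 10, 16, 9, 19, 22, 8, 13, 1, 15, 12, 2, 11, 7, 6, 20, 18, 23], [0, 1, 2, 3, 4, 14,
  15, 10, 21, 8, 12, 19, 7, 22, 17, 18, 13, 5, 6, 20, 11, 9, 16, 23], [0, 1, 2, 11, 22, 18, 19, 6, 20, 14, 3,
  10, 9, 4, 12, 5, 16, 8, 15, 7, 17, 21, 13, 23], [1, 2, 0, 3, 4, 5, 8, 12, 20, 19, 7, 15, 10, 22, 14, 21, 13,
  17, 9, 18, 6, 11, 16, 23]]

theorem tl_ok : ((List.range 7).all fun k => okTab ((tl.getD k []).map (fun i => 2 ^ i)) &&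
    m24Tab ((tl.getD k []).map (fun i => 2 ^ i)) && Nat.beq ((tl.getD k []).getD 23 24) 23 &&
    (Nat.beq k 6 || Nat.beq ((tl.getD k []).getD 0 24) 0)) = true := by decide +kernel

theorem exists_xp (k : ℕ) (hk : k < 7) : ∃ g : Equiv.Perm GolayPt, Rp g (tl.getD k []) ∧ g ∈ Spor.M23 ∧
    (k ≠ 6 → g ∈ Spor.M22) := by
  have h1 := List.all_eq_true.1 tl_ok k (List.mem_range.2 hk)
  simp only [Bool.and_eq_true] at h1
  obtain ⟨⟨⟨h2, h3⟩, h4⟩, h5⟩ := h1
  obtain ⟨g, hg⟩ := exists_rep _ h2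
  have hr := rp_of_rep hg
  have h6 : g ∈ Spor.M23 := by
    refine ⟨hg.mem_M24 h3, ?_⟩
    apply idx_injective
    rw [Equiv.Perm.smul_def, ← hr.eq]
    exact Nat.eq_of_beq_eq_true h4
  refine ⟨g, hr, h6, fun hk6 => ⟨h6, ?_⟩⟩
  rw [Bool.or_eq_true] at h5
  have h7 := h5.resolve_left (fun h => hk6 (Nat.eq_of_beq_eq_true h))
  apply idx_injective
  rw [Equiv.Perm.smul_def, ← hr.eq]
  exact Nat.eq_of_beq_eq_true h7

open Classical in
/-- the generators -/
noncomputable def xp (k : ℕ) : Equiv.Perm GolayPt := if hk : k < 7 then (exists_xp k hk).choose else 1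

theorem xp_spec {k : ℕ} (hk : k < 7) : Rp (xp k) (tl.getD k []) ∧ xp k ∈ Spor.M23 ∧ (k ≠ 6 → xp k ∈ Spor.M22) := by
  have h : xp k = (exists_xp k hk).choose := by unfold xp; rw [dif_pos hk]
  rw [h]
  exact (exists_xp k hk).choose_spec

theorem xp_mem_T {k : ℕ} (hk : k < 3) : xp k ∈ T := by
  have h1 := (xp_spec (k := k) (by omega)).1
  have h2 := rp_gen ⟨k, hk⟩
  have h3 : tl.getD k [] = gl.getD k [] := by interval_cases k <;> rfl
  rw [h3] at h1
  rw [h1.inj h2]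
  exact subset_closure ⟨⟨k, hk⟩, rfl⟩

/-- the value of a word -/
noncomputable def evP (w : List ℕ) : Equiv.Perm GolayPt := (w.map xp).prod

theorem evP_cons (k : ℕ) (w : List ℕ) : evP (k :: w) = xp k * evP w := List.prod_cons

theorem evP_append (v w : List ℕ) : evP (v ++ w) = evP v * evP w := by
  unfold evP
  rw [List.map_append, List.prod_append]

theorem evP_nil : evP [] = 1 := rfl

theorem evP_singleton (k : ℕ) : evP [k] = xp k := by rw [evP_cons, evP_nil, mul_one]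

/-- the table of a word -/
def evT : List ℕ → List ℕ
  | [] => idL
  | k :: w => mulL (tl.getD k []) (evT w)

/-- letters below 7 -/
def lt7 (w : List ℕ) : Bool := w.all fun k => Nat.blt k 7

theorem rp_ev : ∀ {w : List ℕ}, lt7 w = true → Rp (evP w) (evT w)
  | [], _ => by rw [evP_nil]; exact rp_one
  | k :: w, h => by
    unfold lt7 at h
    rw [List.all_cons, Bool.and_eq_true] at h
    rw [evP_cons]
    exact (xp_spec (Nat.blt_eq.mp h.1)).1.mul (rp_ev h.2)

/-- equality of words -/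
def eqb (u v : List ℕ) : Bool := lt7 u && lt7 v && evT u == evT v

theorem eq_of_eqb {u v : List ℕ} (h : eqb u v = true) : evP u = evP v := by
  unfold eqb at h
  simp only [Bool.and_eq_true, beq_iff_eq] at h
  have h1 := rp_ev h.1.1
  have h2 := rp_ev h.1.2
  rw [h.2] at h1
  exact h1.inj h2

theorem ne_of_neb {u v : List ℕ} (hu : lt7 u = true) (hv : lt7 v = true) (h : (evT u == evT v) = false) :
    evP u ≠ evP v := by
  intro he
  have h1 := rp_ev hu
  rw [he] at h1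
  rw [h1.unique (rp_ev hv), beq_self_eq_true] at h
  exact Bool.noConfusion h

theorem evP_mem {H : Subgroup (Equiv.Perm GolayPt)} {w : List ℕ} (h : ∀ k ∈ w, xp k ∈ H) : evP w ∈ H := by
  induction w with
  | nil => exact H.one_mem
  | cons k w ih =>
    rw [evP_cons]
    exact H.mul_mem (h k List.mem_cons_self) (ih fun j hj => h j (List.mem_cons_of_mem _ hj))

/-! ### Overgroups of `T` -/

/-- the group generated by `T` and `xp a` -/
noncomputable def Ov (a : ℕ) : Subgroup (Equiv.Perm GolayPt) := T ⊔ zpowers (xp a)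

/-- coset table: `Y_j g = t Y_k` -/
def cosOk (a : ℕ) (d : List (List ℕ) × List (List (List ℕ × ℕ))) : Bool :=
  (d.1.getD 0 [7] == []) && (List.range d.1.length).all fun j => (List.range 4).all fun i =>
    eqb (d.1.getD j [] ++ [([0, 1, 2, a] : List ℕ).getD i 0])
      (((d.2.getD j []).getD i ([], 0)).1 ++ d.1.getD ((d.2.getD j []).getD i ([], 0)).2 []) &&
    (((d.2.getD j []).getD i ([], 0)).1.all fun k => Nat.blt k 3) &&
    Nat.blt ((d.2.getD j []).getD i ([], 0)).2 d.1.length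

theorem T_eq : T = closure {x | ∃ k < 3, x = xp k} := by
  apply le_antisymm
  · unfold T
    rw [closure_le]
    rintro _ ⟨k, rfl⟩
    refine subset_closure ⟨k, k.2, ?_⟩
    have h1 := (xp_spec (k := (k : ℕ)) (by omega)).1
    have h2 := rp_gen k
    have h3 : tl.getD (k : ℕ) [] = gl.getD k [] := by
      obtain ⟨k, hk⟩ := k
      interval_cases k <;> rfl
    rw [h3] at h1
    exact h2.inj h1
  · rw [closure_le]
    rintro _ ⟨k, hk, rfl⟩
    exact xp_mem_T hk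

theorem Ov_eq (a : ℕ) : Ov a = closure {x | ∃ k ∈ ([0, 1, 2, a] : List ℕ), x = xp k} := by
  apply le_antisymm
  · refine sup_le ?_ ?_
    · rw [T_eq, closure_le]
      rintro _ ⟨k, hk, rfl⟩
      refine subset_closure ⟨k, ?_, rfl⟩
      interval_cases k <;> simp
    · rw [zpowers_le]
      exact subset_closure ⟨a, by simp, rfl⟩
  · rw [closure_le]
    rintro _ ⟨k, hk, rfl⟩
    simp only [List.mem_cons, List.not_mem_nil, or_false] at hk
    rcases hk with rfl | rfl | rfl | rfl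
    · exact mem_sup_left (xp_mem_T (by norm_num))
    · exact mem_sup_left (xp_mem_T (by norm_num))
    · exact mem_sup_left (xp_mem_T (by norm_num))
    · exact mem_sup_right (mem_zpowers _)

theorem exists_coset {a : ℕ} {d : List (List ℕ) × List (List (List ℕ × ℕ))} (h : cosOk a d = true)
    {u : Equiv.Perm GolayPt} (hu : u ∈ Ov a) : ∃ t ∈ T, ∃ j < d.1.length, u = t * evP (d.1.getD j []) := by
  unfold cosOk at h
  rw [Bool.and_eq_true, beq_iff_eq] at h
  have h0 : 0 < d.1.length := by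
    rcases Nat.eq_zero_or_pos d.1.length with h1 | h1
    · have h2 := h.1
      rw [List.getD_eq_default _ _ (by omega)] at h2
      exact absurd h2 (by decide)
    · exact h1
  have hd0 : d.1.getD 0 [] = [] := by
    have h2 := h.1
    rw [List.getD_eq_getElem _ _ h0] at h2 ⊢
    exact h2
  have h1 : u ∈ (closure {x | ∃ k ∈ ([0, 1, 2, a] : List ℕ), x = xp k}).toSubmonoid := by
    rw [← Ov_eq]; exact hu
  rw [Subgroup.closure_toSubmonoid_of_finite] at h1
  refine Submonoid.closure_induction_right (motive := fun u _ => ∃ t ∈ T, ∃ j < d.1.length,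
    u = t * evP (d.1.getD j [])) ?_ ?_ h1
  · exact ⟨1, one_mem _, 0, h0, by rw [hd0, evP_nil, mul_one]⟩
  · rintro u _ _ ⟨k, hk, rfl⟩ ⟨t, ht, j, hj, rfl⟩
    obtain ⟨i, hi, rfl⟩ := List.mem_iff_getElem.1 hk
    have h2 := List.all_eq_true.1 (List.all_eq_true.1 h.2 j (List.mem_range.2 hj)) i (List.mem_range.2 hi)
    simp only [Bool.and_eq_true] at h2
    obtain ⟨⟨h3, h4⟩, h5⟩ := h2
    have h6 := eq_of_eqb h3
    rw [evP_append, evP_append, List.getD_eq_getElem _ _ hi, evP_singleton] at h6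
    refine ⟨t * evP ((d.2.getD j []).getD i ([], 0)).1, mul_mem ht (evP_mem fun k hk => ?_), _, Nat.blt_eq.mp h5, ?_⟩
    · exact xp_mem_T (Nat.blt_eq.mp (List.all_eq_true.1 h4 k hk))
    · rw [mul_assoc, h6, mul_assoc]

theorem card_Ov {a : ℕ} {d : List (List ℕ) × List (List (List ℕ × ℕ))} (h : cosOk a d = true) :
    ∃ m, m ≤ d.1.length ∧ Nat.card (Ov a) = 128 * m := by
  have h1 : 128 ∣ Nat.card (Ov a) := by
    rw [← card_T]
    exact card_dvd_of_le le_sup_left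
  obtain ⟨m, hm⟩ := h1
  refine ⟨m, ?_, hm⟩
  have h2 : Nat.card (Ov a) ≤ Nat.card (T × Fin d.1.length) := by
    choose t ht j hj hu using fun u : Ov a => exists_coset h u.2
    apply Nat.card_le_card_of_injective (fun u : Ov a => ((⟨t u, ht u⟩ : T), (⟨j u, hj u⟩ : Fin d.1.length)))
    intro u v huv
    have h5 : t u = t v := congrArg (fun p : T × Fin d.1.length => (p.1 : Equiv.Perm GolayPt)) huv
    have h6 : j u = j v := congrArg (fun p : T × Fin d.1.length => (p.2 : ℕ)) huv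
    apply Subtype.ext
    rw [hu u, hu v, h5, h6]
  rw [Nat.card_prod, card_T, Nat.card_eq_fintype_card (α := Fin _), Fintype.card_fin, hm] at h2
  exact Nat.le_of_mul_le_mul_left h2 (by norm_num)

/-! ### Data -/

/-- the cosets of `T` in `Ov 3` -/
def dA : List (List ℕ) × List (List (List ℕ × ℕ)) := 
  ([[], [3], [3, 0]], [[([0], 0), ([1], 0), ([2], 0), ([], 1)], [([], 2), ([0, 2], 1), ([1, 2, 1, 0], 2), ([2,
  1, 1, 1], 2)], [([2, 2, 2, 1, 0], 1), ([1, 2, 0, 2, 0], 2), ([0, 0, 1], 1), ([2, 1, 1, 1], 0)]])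

/-- the cosets of `T` in `Ov 4` -/
def dB : List (List ℕ) × List (List (List ℕ × ℕ)) := 
  ([[], [4], [4, 0]], [[([0], 0), ([1], 0), ([2], 0), ([], 1)], [([], 2), ([0, 2], 2), ([1, 2, 1, 0], 2), ([0,
  0, 2, 0, 0], 2)], [([1, 2, 1, 1], 1), ([0, 0, 1, 1], 1), ([2, 1, 0, 0], 1), ([0, 2, 0], 0)]])

/-- the cosets of `T` in `Ov 5` -/
def dU : List (List ℕ) × List (List (List ℕ × ℕ)) := 
  ([[], [5], [5, 0], [5, 1], [5, 5], [5, 0, 1], [5, 0, 5], [5, 1, 1], [5, 1, 5], [5, 0, 1, 1], [5, 0, 5, 5],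
  [5, 1, 1, 5], [5, 1, 5, 0], [5, 0, 5, 5, 0], [5, 1, 5, 0, 1]], [[([0], 0), ([1], 0), ([2], 0), ([], 1)],
  [([], 2), ([], 3), ([2, 2, 2, 2], 3), ([], 4)], [([2, 0, 2, 0], 1), ([], 5), ([1, 0, 1, 0], 5), ([], 6)],
  [([0, 1, 1, 1], 4), ([], 7), ([2, 2, 2, 1], 7), ([], 8)], [([1, 0], 3), ([2, 0], 2), ([0, 2, 2, 1], 2), ([],
  0)], [([1, 0, 0, 2], 6), ([], 9), ([2, 2, 1, 1], 9), ([0, 2, 2, 2, 0], 3)], [([1, 1, 0, 0], 5), ([2, 1, 0,
  0], 1), ([0, 0, 1, 1], 1), ([], 10)], [([1, 2, 1, 1], 9), ([1, 2], 6), ([2, 0, 0, 2], 6), ([], 11)], [([],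
  12), ([2, 0], 11), ([0, 2, 2, 1], 11), ([2, 2, 2], 5)], [([0, 0], 7), ([1, 1, 0, 2], 4), ([0, 2, 2, 2], 4),
  ([2, 2, 1], 7)], [([], 13), ([1, 2, 0, 0], 13), ([1, 1], 13), ([], 2)], [([0, 2, 2], 11), ([1, 2, 0, 1, 0],
  12), ([0, 0, 1], 12), ([0, 0, 1], 9)], [([1, 2, 1, 1], 8), ([], 14), ([1, 1, 2, 2], 14), ([2, 0], 13)],
  [([1, 1, 1, 2], 10), ([0, 1], 10), ([0, 1, 0, 0], 10), ([1, 1, 0], 14)], [([1, 0, 2, 0, 0], 14), ([2, 1, 1,
  2, 0], 8), ([1, 0, 1], 8), ([2], 12)]])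

/-- the cosets of `T` in `Ov 6` -/
def dC : List (List ℕ) × List (List (List ℕ × ℕ)) := 
  ([[], [6], [6, 0]], [[([0], 0), ([1], 0), ([2], 0), ([], 1)], [([], 2), ([2, 1], 2), ([0, 0, 2, 2], 2), ([1,
  2, 1], 2)], [([2, 1, 1, 2], 1), ([0, 0, 1, 0], 1), ([1, 1, 0, 2], 1), ([0, 1, 2, 1, 0], 0)]])

theorem dA_ok : cosOk 3 dA = true := by decide +kernel

theorem dB_ok : cosOk 4 dB = true := by decide +kernel

theorem dU_ok : cosOk 5 dU = true := by decide +kernel

theorem dC_ok : cosOk 6 dC = true := by decide +kernel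

/-- the power of a word -/
def rep (w : List ℕ) : ℕ → List ℕ
  | 0 => []
  | n + 1 => w ++ rep w n

theorem evP_rep (w : List ℕ) (n : ℕ) : evP (rep w n) = evP w ^ n := by
  induction n with
  | zero => rw [rep, evP_nil, pow_zero]
  | succ n ih => rw [rep, evP_append, ih, pow_succ']

/-- the word `w` has order `p` -/
def ordOk (w : List ℕ) (p : ℕ) : Bool := eqb (rep w p) [] && lt7 w && !(evT w == evT [])

theorem orderOf_word {w : List ℕ} {p : ℕ} (hp : p.Prime) (h : ordOk w p = true) : orderOf (evP w) = p := by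
  unfold ordOk at h
  simp only [Bool.and_eq_true, Bool.not_eq_true'] at h
  obtain ⟨⟨h1, h2⟩, h3⟩ := h
  have h4 := eq_of_eqb h1
  rw [evP_rep, evP_nil] at h4
  have h5 := ne_of_neb h2 (v := []) rfl h3
  rw [evP_nil] at h5
  rcases (Nat.dvd_prime hp).1 (orderOf_dvd_of_pow_eq_one h4) with h | h
  · exact absurd (orderOf_eq_one_iff.1 h) h5
  · exact h

theorem ord_U3 : ordOk [5] 3 = true := by decide +kernel

theorem ord_U5 : ordOk [0, 1, 5] 5 = true := by decide +kernel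

theorem ord_5 : ordOk [3, 4] 5 = true := by decide +kernel

theorem ord_7 : ordOk [0, 3, 5] 7 = true := by decide +kernel

theorem ord_11 : ordOk [3, 5] 11 = true := by decide +kernel

theorem ord_23 : ordOk [1, 5, 3, 6] 23 = true := by decide +kernel

/-! ### The argument -/

section arg

variable {π : Set ℕ}

theorem isPi_three (h2 : 2 ∈ π) (h3 : 3 ∈ π) {a : ℕ} {d : List (List ℕ) × List (List (List ℕ × ℕ))}
    (h : cosOk a d = true) (hl : d.1.length = 3) : IsPiSubgroup π (Ov a) := by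
  obtain ⟨m, hm, hc⟩ := card_Ov h
  rw [hl] at hm
  intro p hp hd
  rw [hc] at hd
  have hm0 : m ≠ 0 := by
    rintro rfl
    have h1 : Nat.card (Ov a) ≠ 0 := Nat.card_pos.ne'
    exact h1 hc
  rcases hp.dvd_mul.1 hd with h1 | h1
  · have h4 : p ∣ 2 ^ 7 := by norm_num; exact h1
    rw [(Nat.prime_dvd_prime_iff_eq hp Nat.prime_two).1 (hp.dvd_of_dvd_pow h4)]
    exact h2
  · have h4 := Nat.le_of_dvd (Nat.pos_of_ne_zero hm0) h1
    have h5 := hp.two_le
    have h6 : p = 2 ∨ p = 3 := by omega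
    rcases h6 with rfl | rfl
    · exact h2
    · exact h3

theorem isPi_U (h2 : 2 ∈ π) (h3 : 3 ∈ π) (h5 : 5 ∈ π) : IsPiSubgroup π (Ov 5) := by
  obtain ⟨m, hm, hc⟩ := card_Ov dU_ok
  rw [show dU.1.length = 15 from rfl] at hm
  have e5 : xp 5 ∈ Ov 5 := mem_sup_right (mem_zpowers _)
  have eT : ∀ k < 3, xp k ∈ Ov 5 := fun k hk => mem_sup_left (xp_mem_T hk)
  have d3 : 3 ∣ Nat.card (Ov 5) := by
    have h1 := orderOf_dvd_natCard (Ov 5) e5
    have h4 := orderOf_word Nat.prime_three ord_U3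
    rw [evP_singleton] at h4
    rwa [h4] at h1
  have d5 : 5 ∣ Nat.card (Ov 5) := by
    have h6 : evP [0, 1, 5] ∈ Ov 5 → 5 ∣ Nat.card (Ov 5) := by
      intro h
      have h1 := orderOf_dvd_natCard (Ov 5) h
      rwa [orderOf_word (p := 5) (by norm_num) ord_U5] at h1
    refine h6 (evP_mem fun k hk => ?_)
    simp only [List.mem_cons, List.not_mem_nil, or_false] at hk
    rcases hk with rfl | rfl | rfl
    · exact eT 0 (by norm_num)
    · exact eT 1 (by norm_num)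
    · exact e5
  have hm0 : m ≠ 0 := by
    rintro rfl
    have h1 : Nat.card (Ov 5) ≠ 0 := Nat.card_pos.ne'
    exact h1 hc
  have h15 : m = 15 := by
    rw [hc] at d3 d5
    omega
  intro p hp hd
  rw [hc, h15] at hd
  have h1 : p ∣ 2 ^ 7 * (3 * 5) := by norm_num; norm_num at hd; exact hd
  rcases hp.dvd_mul.1 h1 with h1 | h1
  · rw [(Nat.prime_dvd_prime_iff_eq hp Nat.prime_two).1 (hp.dvd_of_dvd_pow h1)]
    exact h2
  rcases hp.dvd_mul.1 h1 with h1 | h1
  · rw [(Nat.prime_dvd_prime_iff_eq hp Nat.prime_three).1 h1]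
    exact h3
  · rw [(Nat.prime_dvd_prime_iff_eq hp (by norm_num)).1 h1]
    exact h5

theorem Ov_le {a : ℕ} (ha : a < 6) : Ov a ≤ Spor.M22 := by
  refine sup_le T_le ?_
  rw [zpowers_le]
  exact (xp_spec (by omega)).2.2 (by omega)

theorem Ov_le' {a : ℕ} (ha : a < 7) : Ov a ≤ Spor.M23 := by
  refine sup_le (T_le.trans inf_le_left) ?_
  rw [zpowers_le]
  exact (xp_spec (by omega)).2.1

theorem core22 (h2 : 2 ∈ π) (h3 : 3 ∈ π) {H : Subgroup (Equiv.Perm GolayPt)} (hH : IsPiSubgroup π H)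
    (hU : ∀ U : Subgroup (Equiv.Perm GolayPt), U ≤ Spor.M22 → IsPiSubgroup π U → T ≤ U → U ≤ H) :
    (∀ k < 6, xp k ∈ H) ∧ 5 ∈ π ∧ 7 ∈ π ∧ 11 ∈ π := by
  have hO : ∀ a < 6, IsPiSubgroup π (Ov a) → xp a ∈ H := fun a ha h =>
    hU (Ov a) (Ov_le ha) h le_sup_left (mem_sup_right (mem_zpowers _))
  have x3 := hO 3 (by norm_num) (isPi_three h2 h3 dA_ok rfl)
  have x4 := hO 4 (by norm_num) (isPi_three h2 h3 dB_ok rfl)
  have hpT : IsPiSubgroup π (Ov 3) := isPi_three h2 h3 dA_ok rfl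
  have hT : T ≤ H := le_sup_left.trans (hU (Ov 3) (Ov_le (by norm_num)) hpT le_sup_left)
  have hxT : ∀ k < 3, xp k ∈ H := fun k hk => hT (xp_mem_T hk)
  have key : ∀ w : List ℕ, ∀ p : ℕ, p.Prime → (∀ k ∈ w, xp k ∈ H) → ordOk w p = true → p ∈ π := by
    intro w p hp hw hord
    refine hH p hp ?_
    rw [← orderOf_word hp hord]
    exact orderOf_dvd_natCard _ (evP_mem hw)
  have h5 : 5 ∈ π := by
    refine key [3, 4] 5 (by norm_num) ?_ ord_5
    simp only [List.mem_cons, List.not_mem_nil, or_false, forall_eq_or_imp, forall_eq]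
    exact ⟨x3, x4⟩
  have x5 := hO 5 (by norm_num) (isPi_U h2 h3 h5)
  have hall : ∀ k < 6, xp k ∈ H := by
    intro k hk
    interval_cases k
    · exact hxT 0 (by norm_num)
    · exact hxT 1 (by norm_num)
    · exact hxT 2 (by norm_num)
    · exact x3
    · exact x4
    · exact x5
  refine ⟨hall, h5, key [0, 3, 5] 7 (by norm_num) ?_ ord_7, key [3, 5] 11 (by norm_num) ?_ ord_11⟩
  · simp only [List.mem_cons, List.not_mem_nil, or_false, forall_eq_or_imp, forall_eq]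
    exact ⟨hall 0 (by norm_num), x3, x5⟩
  · simp only [List.mem_cons, List.not_mem_nil, or_false, forall_eq_or_imp, forall_eq]
    exact ⟨x3, x5⟩

theorem core23 (h2 : 2 ∈ π) (h3 : 3 ∈ π) {H : Subgroup (Equiv.Perm GolayPt)} (hH : IsPiSubgroup π H)
    (hU : ∀ U : Subgroup (Equiv.Perm GolayPt), U ≤ Spor.M23 → IsPiSubgroup π U → T ≤ U → U ≤ H) :
    5 ∈ π ∧ 7 ∈ π ∧ 11 ∈ π ∧ 23 ∈ π := by
  obtain ⟨hall, h5, h7, h11⟩ := core22 h2 h3 hH (fun U h => hU U (h.trans inf_le_left))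
  have x6 : xp 6 ∈ H := hU (Ov 6) (Ov_le' (by norm_num)) (isPi_three h2 h3 dC_ok rfl) le_sup_left
    (mem_sup_right (mem_zpowers _))
  refine ⟨h5, h7, h11, hH 23 (by norm_num) ?_⟩
  rw [← orderOf_word (p := 23) (by norm_num) ord_23]
  refine orderOf_dvd_natCard _ (evP_mem ?_)
  simp only [List.mem_cons, List.not_mem_nil, or_false, forall_eq_or_imp, forall_eq]
  exact ⟨hall 1 (by norm_num), hall 5 (by norm_num), hall 3 (by norm_num), x6⟩

/-- transfer to the subgroup `M` -/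
theorem exists_H {M : Subgroup (Equiv.Perm GolayPt)} (h2 : 2 ∈ π) (_hTM : T ≤ M)
    (hi : ¬ 2 ∣ (T.subgroupOf M).index) (hself : QTNorm.SelfN M) (hD : DT π M) :
    ∃ H : Subgroup (Equiv.Perm GolayPt), IsPiSubgroup π H ∧
      ∀ U : Subgroup (Equiv.Perm GolayPt), U ≤ M → IsPiSubgroup π U → T ≤ U → U ≤ H := by
  have hfact : Fact (Nat.Prime 2) := ⟨Nat.prime_two⟩
  have hp : IsPGroup 2 (T.subgroupOf M) := isPGroup_T.comap_of_injective _ (subtype_injective _)
  let S : Sylow 2 M := hp.toSylow hi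
  have hN : IsPiSubgroup π (normalizer ((S : Subgroup M) : Set M)) := by
    rw [show normalizer ((S : Subgroup M) : Set M) = S from le_antisymm (hself S) le_normalizer]
    exact isPi_of_pGroup h2 S.isPGroup'
  obtain ⟨H, hH, hU⟩ := hD.exists_ge S hN
  refine ⟨H.map M.subtype, isPi_map hH.pi _, fun U hUM hUp hTU => ?_⟩
  have h1 : U.subgroupOf M ≤ H := by
    refine hU _ ?_ ?_
    · intro p hp hd
      rw [Nat.card_congr (subgroupOfEquivOfLe hUM).toEquiv] at hd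
      exact hUp p hp hd
    · exact comap_mono hTU
  intro u hu
  exact ⟨⟨u, hUM hu⟩, h1 hu, rfl⟩

/-- **`Good π M22`** -/
theorem good22 (h2 : 2 ∈ π) (h3 : 3 ∈ π) : H861.PiS.Good π Spor.M22 := by
  intro hD p hp hd
  have hc := Cfsg.Agent.SporadicA.MathieuRecog.card_M22
  have hcT : Nat.card (T.subgroupOf Spor.M22) = 128 := by
    rw [Nat.card_congr (subgroupOfEquivOfLe T_le).toEquiv, card_T]
  have hi : ¬ 2 ∣ (T.subgroupOf Spor.M22).index := by
    have h1 := card_mul_index (T.subgroupOf Spor.M22)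
    rw [hcT, hc] at h1
    omega
  obtain ⟨H, hH, hU⟩ := exists_H h2 T_le hi QTNorm.selfN_M22 hD
  obtain ⟨-, h5, h7, h11⟩ := core22 h2 h3 hH hU
  rw [hc] at hd
  have h1 : p ∣ 2 ^ 7 * (3 ^ 2 * (5 * (7 * 11))) := by norm_num; exact hd
  rcases hp.dvd_mul.1 h1 with h | h1
  · rw [(Nat.prime_dvd_prime_iff_eq hp Nat.prime_two).1 (hp.dvd_of_dvd_pow h)]; exact h2
  rcases hp.dvd_mul.1 h1 with h | h1
  · rw [(Nat.prime_dvd_prime_iff_eq hp Nat.prime_three).1 (hp.dvd_of_dvd_pow h)]; exact h3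
  rcases hp.dvd_mul.1 h1 with h | h1
  · rw [(Nat.prime_dvd_prime_iff_eq hp (by norm_num)).1 h]; exact h5
  rcases hp.dvd_mul.1 h1 with h | h1
  · rw [(Nat.prime_dvd_prime_iff_eq hp (by norm_num)).1 h]; exact h7
  · rw [(Nat.prime_dvd_prime_iff_eq hp (by norm_num)).1 h1]; exact h11

/-- **`Good π M23`** -/
theorem good23 (h2 : 2 ∈ π) (h3 : 3 ∈ π) : H861.PiS.Good π Spor.M23 := by
  intro hD p hp hd
  have hc := Cfsg.Agent.SporadicA.MathieuRecog.card_M23
  have hle : T ≤ Spor.M23 := T_le.trans inf_le_left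
  have hcT : Nat.card (T.subgroupOf Spor.M23) = 128 := by
    rw [Nat.card_congr (subgroupOfEquivOfLe hle).toEquiv, card_T]
  have hi : ¬ 2 ∣ (T.subgroupOf Spor.M23).index := by
    have h1 := card_mul_index (T.subgroupOf Spor.M23)
    rw [hcT, hc] at h1
    omega
  obtain ⟨H, hH, hU⟩ := exists_H h2 hle hi H868.selfN_M23 hD
  obtain ⟨h5, h7, h11, h23⟩ := core23 h2 h3 hH hU
  rw [hc] at hd
  have h1 : p ∣ 2 ^ 7 * (3 ^ 2 * (5 * (7 * (11 * 23)))) := by norm_num; exact hd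
  rcases hp.dvd_mul.1 h1 with h | h1
  · rw [(Nat.prime_dvd_prime_iff_eq hp Nat.prime_two).1 (hp.dvd_of_dvd_pow h)]; exact h2
  rcases hp.dvd_mul.1 h1 with h | h1
  · rw [(Nat.prime_dvd_prime_iff_eq hp Nat.prime_three).1 (hp.dvd_of_dvd_pow h)]; exact h3
  rcases hp.dvd_mul.1 h1 with h | h1
  · rw [(Nat.prime_dvd_prime_iff_eq hp (by norm_num)).1 h]; exact h5
  rcases hp.dvd_mul.1 h1 with h | h1
  · rw [(Nat.prime_dvd_prime_iff_eq hp (by norm_num)).1 h]; exact h7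
  rcases hp.dvd_mul.1 h1 with h | h1
  · rw [(Nat.prime_dvd_prime_iff_eq hp (by norm_num)).1 h]; exact h11
  · rw [(Nat.prime_dvd_prime_iff_eq hp (by norm_num)).1 h1]; exact h23

end arg

end Cfsg.Agent.H841.PiBS.M23
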