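import Cfsg.Agent.H841.PiBS.Fi
import Cfsg.Agent.H469.PiBS.Def

/-!
# S3876: the rows `M22, M23, M24, Fi22, Fi23, Fi24'` for `2, 3 ∈ π` (helper841)

* `dc_of_hyp` : `Hyp` and `|Out| ≤ 2` give `DC`;
* `row_of_dc`, `row_of_good`;
* `good_m22, …, good_fi24` : `DC π S → PiGrp π S`.
-/

set_option autoImplicit false
set_option linter.unusedSectionVars false

namespace Cfsg.Agent.H841.PiBS.Rows

open Cfsg Subgroup
open Cfsg.Agent.H841.PiBS
open Cfsg.Agent.H469.PiBS (Hyp Row)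
open Cfsg.Agent.H543.PiBS (DC)
open Cfsg.Agent.H861.PiS (Good)

universe u

variable {π : Set ℕ} {S : Type u} [Group S] [Finite S]

/-- `|Out S| ≤ 2` : the Hall π-subgroups are conjugate in `S` -/
theorem dc_of_hyp (hout : (MulAut.conj : S →* MulAut S).range.index ≤ 2) (h2 : 2 ∈ π) {A : Subgroup (MulAut S)}
    {x : MulAut S} {l : ℕ} (h : Hyp π A x l) : DC π S := by
  refine DC.of_outer hout h.dom (fun H K hH hK => ?_) (h.cnt 2 Nat.prime_two h2)
  obtain ⟨a, -, ha⟩ := h.trans H K hH hK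
  exact ⟨a, ha.symm⟩

theorem row_of_dc (hout : (MulAut.conj : S →* MulAut S).range.index ≤ 2) (h2 : 2 ∈ π)
    (hg : DC π S → H543.PiBS.PiGrp π S) : Row π S :=
  fun _ _ _ h => hg (dc_of_hyp hout h2 h)

theorem piGrp_of_good (h2 : 2 ∈ π) (hg : Good π S) (h : DC π S) : H543.PiBS.PiGrp π S :=
  hg (DT.of_dPi h.isDPi h2)

theorem row_of_good (hout : (MulAut.conj : S →* MulAut S).range.index ≤ 2) (h2 : 2 ∈ π) (hg : Good π S) : Row π S :=
  row_of_dc hout h2 (piGrp_of_good h2 hg)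

omit [Finite S] in
/-- transport -/
theorem congr {S' : Type*} [Group S'] (e : S ≃* S') (hg : DC π S' → H543.PiBS.PiGrp π S') (h : DC π S) :
    H543.PiBS.PiGrp π S := by
  intro p hp hd
  refine hg (h.congr e) p hp ?_
  rwa [← Nat.card_congr e.toEquiv]

variable (h2 : 2 ∈ π) (h3 : 3 ∈ π)

include h2 h3

theorem good_m22 (h : Spor.IsoM22 S) (hD : DC π S) : H543.PiBS.PiGrp π S := by
  obtain ⟨e⟩ := h
  exact congr e (piGrp_of_good h2 (M23.good22 h2 h3)) hD

theorem good_m23 (h : Spor.IsoM23 S) (hD : DC π S) : H543.PiBS.PiGrp π S := by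
  obtain ⟨e⟩ := h
  exact congr e (piGrp_of_good h2 (M23.good23 h2 h3)) hD

theorem good_m24 (h : Spor.IsoM24 S) (hD : DC π S) : H543.PiBS.PiGrp π S := by
  obtain ⟨e⟩ := h
  exact congr e (piGrp_of_good h2 (M24.good h2 h3)) hD

theorem good_fi22 [IsSimpleGroup S] (hcard : Nat.card S = 64561751654400) (h : Spor.IsoFi22 S) (hD : DC π S) :
    H543.PiBS.PiGrp π S := by
  obtain ⟨e⟩ := h
  have : Finite Spor.Fi22 := Finite.of_equiv _ e.toEquiv
  have : IsSimpleGroup Spor.Fi22 := (MulEquiv.isSimpleGroup_congr e).1 inferInstance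
  exact congr e (Fi.fi22 h2 h3 (by rw [← Nat.card_congr e.toEquiv, hcard])) hD

theorem good_fi23 (h : Spor.IsoFi23 S) (hD : DC π S) : H543.PiBS.PiGrp π S := by
  obtain ⟨e⟩ := h
  exact congr e (Fi.fi23 h2 h3) hD

theorem good_fi24 (h : Spor.IsoFi24' S) (hD : DC π S) : H543.PiBS.PiGrp π S := by
  obtain ⟨e⟩ := h
  exact congr e (Fi.fi24 h2 h3) hD

end Cfsg.Agent.H841.PiBS.Rows
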