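import Cfsg.Agent.H841.PiBS.Sieve

/-!
# S3876: the sieve with the orders of the Sylow normalisers (helper841)

`exists_f` : `n = |S|_{π'}` is congruent modulo `r ∈ π` to a divisor of `gcd(n, |N(R)|)`, `R` a Sylow `r`-subgroup.
-/

set_option autoImplicit false

namespace Cfsg.Agent.H841.PiBS

open Cfsg Subgroup
open Cfsg.Agent.H543.PiBS (DC PiGrp)

universe u

variable {S : Type u} [Group S] [Finite S] {π : Set ℕ}

theorem exists_f (h : DC π S) {H : Subgroup S} (hH : IsPiHall π H) {r : ℕ} [hr : Fact r.Prime] (hrp : r ∈ π) :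
    ∃ (R : Sylow r S) (f : ℕ), f ∣ H.index ∧ f ∣ Nat.card (normalizer ((R : Subgroup S) : Set S)) ∧
      f ≡ H.index [MOD r] := by
  have hri : ¬ r ∣ H.index := fun hd => hH.2 r hr.out hrp hd
  obtain ⟨R, hR⟩ := exists_sylow_le hri
  set N := normalizer ((R : Subgroup S) : Set S) with hN
  -- the fixed points
  have hfix : MulAction.fixedPoints (R : Subgroup S) (S ⧸ H) = MulAction.orbit N ((1 : S) : S ⧸ H) := by
    ext x
    induction x using QuotientGroup.induction_on with
    | H g =>
      constructor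
      · intro hx
        have h1 : (R : Subgroup S).map (MulAut.conj g⁻¹).toMonoidHom ≤ H := by
          rintro _ ⟨y, hy, rfl⟩
          have h2 : (⟨y, hy⟩ : (R : Subgroup S)) • ((g : S) : S ⧸ H) = ((g : S) : S ⧸ H) := hx ⟨y, hy⟩
          have h3 : ((y * g : S) : S ⧸ H) = ((g : S) : S ⧸ H) := h2
          rw [eq_comm, QuotientGroup.eq] at h3
          show g⁻¹ * y * g⁻¹⁻¹ ∈ H
          rwa [inv_inv, mul_assoc]
        obtain ⟨k, hk, hke⟩ := PiBSr.exists_conj_in R hR h1
        have hn : g * k⁻¹ ∈ N := by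
          have h2 : (k * g⁻¹) ∈ N := by
            rw [hN, mem_normalizer_iff]
            intro y
            constructor
            · intro hy
              rw [← hke]
              exact conj_mem_map hy
            · intro hy
              rw [← hke, mem_map_conj] at hy
              have e : (k * g⁻¹)⁻¹ * (k * g⁻¹ * y * (k * g⁻¹)⁻¹) * (k * g⁻¹) = y := by group
              rwa [e] at hy
          have h3 := inv_mem h2
          have e : (k * g⁻¹)⁻¹ = g * k⁻¹ := by group
          rwa [e] at h3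
        refine ⟨⟨g * k⁻¹, hn⟩, ?_⟩
        show ((g * k⁻¹ * 1 : S) : S ⧸ H) = ((g : S) : S ⧸ H)
        rw [mul_one, QuotientGroup.eq]
        have e : (g * k⁻¹)⁻¹ * g = k := by group
        rw [e]; exact hk
      · rintro ⟨n, hn⟩ ⟨y, hy⟩
        have h1 : ((((n : S) * 1 : S)) : S ⧸ H) = ((g : S) : S ⧸ H) := hn
        rw [← h1]
        show ((y * ((n : S) * 1) : S) : S ⧸ H) = (((n : S) * 1 : S) : S ⧸ H)
        rw [eq_comm, QuotientGroup.eq]
        have h2 : (n : S)⁻¹ * y * (n : S)⁻¹⁻¹ ∈ (R : Subgroup S) := (mem_normalizer_iff.1 (inv_mem n.2) y).1 hy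
        have e : ((n : S) * 1)⁻¹ * (y * ((n : S) * 1)) = (n : S)⁻¹ * y * (n : S)⁻¹⁻¹ := by group
        rw [e]
        exact hR h2
  have hst : MulAction.stabilizer N ((1 : S) : S ⧸ H) = H.subgroupOf N := by
    ext n
    rw [MulAction.mem_stabilizer_iff, mem_subgroupOf]
    show ((((n : S) * 1 : S)) : S ⧸ H) = ((1 : S) : S ⧸ H) ↔ _
    rw [mul_one, eq_comm, QuotientGroup.eq]
    simp
  have hcard : Nat.card (MulAction.fixedPoints (R : Subgroup S) (S ⧸ H)) = H.relIndex N := by
    rw [hfix]
    have h1 := MulAction.index_stabilizer N ((1 : S) : S ⧸ H)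
    rw [hst] at h1
    exact h1.symm
  have hmod := R.isPGroup'.card_modEq_card_fixedPoints (S ⧸ H)
  rw [hcard] at hmod
  -- `f ∣ n`
  have hfd : H.relIndex N ∣ H.index := by
    have h1 : H.relIndex N ∣ Nat.card H * H.index := by
      rw [card_mul_index]
      exact (relIndex_dvd_card H N).trans (card_subgroup_dvd_card N)
    refine Nat.Coprime.dvd_of_dvd_mul_left ?_ h1
    by_contra hn
    obtain ⟨p, hp, h2, h3⟩ := Nat.Prime.not_coprime_iff_dvd.mp hn
    exact relIndex_normalizer h hH hrp R hR hp (hH.1 p hp h3) h2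
  exact ⟨R, H.relIndex N, hfd, relIndex_dvd_card H N, by rw [index]; exact hmod.symm⟩

end Cfsg.Agent.H841.PiBS
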