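import Cfsg.Agent.H841.PiBS.HNB
import Cfsg.Agent.H841.PiBS.SieveN
import Cfsg.Agent.H438.Fpr.HNA

/-!
# S3876: the row `HN` (helper841)

`row_HN` : `2, 3 ∈ π` and `DC π S` imply that `S ≅ HN` is a π-group.
If `5 ∉ π`: `7 ∈ π`, and `n = 5⁶ m`, `m ∣ 11 · 19` does not pass the sieve for `r = 7, 11, 19`.
-/

set_option autoImplicit false

namespace Cfsg.Agent.H841.PiBS.HN

open Cfsg Subgroup
open Cfsg.Agent.H543.PiBS (DC PiGrp)

variable {π : Set ℕ}

theorem card_sylow_of {r : ℕ} [hr : Fact r.Prime] (R : Sylow r G) (h1 : r ∣ 273030912000000)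
    (h2 : ¬ r ^ 2 ∣ 273030912000000) : Nat.card (R : Subgroup G) = r := by
  obtain ⟨n, hn⟩ := IsPGroup.iff_card.1 R.isPGroup'
  have h3 : r ∣ Nat.card (R : Subgroup G) := R.dvd_card_of_dvd_card (by rw [card_G]; exact h1)
  have h4 : Nat.card (R : Subgroup G) ∣ 273030912000000 := by rw [← card_G]; exact card_subgroup_dvd_card _
  rw [hn] at h3 h4 ⊢
  rcases n with _ | _ | n
  · rw [pow_zero] at h3; exact absurd (Nat.dvd_one.1 h3) hr.out.one_lt.ne'
  · rw [zero_add, pow_one]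
  · exact absurd ((pow_dvd_pow r (by omega)).trans h4) h2

theorem sieve_r (hD : DC π G) {H : Subgroup G} (hH : IsPiHall π H) {r N : ℕ} (hr : r.Prime) (hrp : r ∈ π)
    (h1 : r ∣ 273030912000000) (h2 : ¬ r ^ 2 ∣ 273030912000000)
    (hN : ∀ R : Subgroup G, Nat.card R = r → Nat.card (normalizer (R : Set G)) = N) :
    ∃ f : ℕ, f ∣ H.index ∧ f ∣ N ∧ f ≡ H.index [MOD r] := by
  have hF : Fact r.Prime := ⟨hr⟩
  obtain ⟨R, f, hf1, hf2, hf3⟩ := exists_f hD hH hrp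
  exact ⟨f, hf1, by rw [← hN _ (card_sylow_of R h1 h2)]; exact hf2, hf3⟩

theorem five_mem (h2 : 2 ∈ π) (h3 : 3 ∈ π) (hD : DC π G) : 5 ∈ π := by
  by_contra h5
  have h7 := seven_mem h2 h3 (DT.of_dPi hD.isDPi h2)
  obtain ⟨H, hH⟩ := hD.exists_hall
  have hmul := H.card_mul_index
  rw [card_G] at hmul
  have hi2 := hH.2 2 Nat.prime_two h2
  have hi3 := hH.2 3 Nat.prime_three h3
  have hi7 := hH.2 7 (by norm_num) h7
  have hc5 : ¬ 5 ∣ Nat.card H := fun h => h5 (hH.1 5 (by norm_num) h)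
  -- `n = 5⁶ m`
  have h56 : 5 ^ 6 ∣ H.index := by
    have h4 : 5 ^ 6 ∣ Nat.card H * H.index := by rw [hmul]; norm_num
    exact (Nat.Coprime.pow_left 6 ((Nat.Prime.coprime_iff_not_dvd (by norm_num)).2 hc5)).dvd_of_dvd_mul_left h4
  obtain ⟨m, hm⟩ := h56
  have hm' : m ∣ 209 := by
    have h4 : m ∣ 2 ^ 14 * 3 ^ 6 * 7 * 209 := by
      refine ⟨Nat.card H, ?_⟩
      have h6 : 5 ^ 6 * (2 ^ 14 * 3 ^ 6 * 7 * 209) = 5 ^ 6 * (m * Nat.card H) := by
        rw [← mul_assoc (5 ^ 6) m, ← hm, mul_comm H.index, hmul]; norm_num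
      exact Nat.eq_of_mul_eq_mul_left (by norm_num) h6
    have h5' : Nat.Coprime m (2 ^ 14 * 3 ^ 6 * 7) := by
      have hmd : ∀ p : ℕ, p.Prime → ¬ p ∣ H.index → Nat.Coprime m p := fun p hp hpi =>
        ((Nat.Prime.coprime_iff_not_dvd hp).2 fun h => hpi (by rw [hm]; exact h.mul_left _)).symm
      exact ((hmd 2 Nat.prime_two hi2).pow_right 14).mul_right ((hmd 3 Nat.prime_three hi3).pow_right 6)
        |>.mul_right (hmd 7 (by norm_num) hi7)
    exact h5'.dvd_of_dvd_mul_left h4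
  have hm4 : m = 1 ∨ m = 11 ∨ m = 19 ∨ m = 209 := by
    have h4 : m ∈ Nat.divisors 209 := Nat.mem_divisors.2 ⟨hm', by norm_num⟩
    have h6 : Nat.divisors 209 = {1, 11, 19, 209} := by decide +kernel
    rw [h6] at h4
    simpa using h4
  have hmem : ∀ p : ℕ, p.Prime → p ∣ 273030912000000 → ¬ p ∣ H.index → p ∈ π := by
    intro p hp hd hpi
    rw [← hmul] at hd
    exact hH.1 p hp ((hp.dvd_mul.1 hd).resolve_right hpi)
  obtain ⟨f, hf1, hf2, hf3⟩ := sieve_r hD hH (r := 7) (N := 2520) (by norm_num) h7 (by norm_num) (by norm_num)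
    fun R hR => (H438.Fpr.HN.cn7 hR).2
  have hdiv : ∀ {a b : ℕ}, f ∣ a → f ∣ b → f ∣ Nat.gcd a b := fun h h' => Nat.dvd_gcd h h'
  rcases hm4 with rfl | rfl | rfl | rfl
  · -- `m = 1`
    have h19 : 19 ∈ π := hmem 19 (by norm_num) (by norm_num) (by rw [hm]; norm_num)
    obtain ⟨f, hf1, hf2, hf3⟩ := sieve_r hD hH (r := 19) (N := 171) (by norm_num) h19 (by norm_num) (by norm_num)
      fun R hR => (H438.Fpr.HN.cn19 hR).2
    rw [hm] at hf1 hf3
    have h8 := Nat.dvd_gcd hf1 hf2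
    rw [show Nat.gcd (5 ^ 6 * 1) 171 = 1 by norm_num, Nat.dvd_one] at h8
    rw [h8] at hf3
    exact absurd hf3 (by decide)
  · rw [hm] at hf1 hf3
    have h8 := Nat.dvd_gcd hf1 hf2
    rw [show Nat.gcd (5 ^ 6 * 11) 2520 = 5 by norm_num] at h8
    rcases (Nat.dvd_prime (by norm_num)).1 h8 with h9 | h9
    · rw [h9] at hf3; exact absurd hf3 (by decide)
    · rw [h9] at hf3; exact absurd hf3 (by decide)
  · have h11 : 11 ∈ π := hmem 11 (by norm_num) (by norm_num) (by rw [hm]; norm_num)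
    obtain ⟨f, hf1, hf2, hf3⟩ := sieve_r hD hH (r := 11) (N := 220) (by norm_num) h11 (by norm_num) (by norm_num)
      fun R hR => (H438.Fpr.HN.cn11 hR).2
    rw [hm] at hf1 hf3
    have h8 := Nat.dvd_gcd hf1 hf2
    rw [show Nat.gcd (5 ^ 6 * 19) 220 = 5 by norm_num] at h8
    rcases (Nat.dvd_prime (by norm_num)).1 h8 with h9 | h9
    · rw [h9] at hf3; exact absurd hf3 (by decide)
    · rw [h9] at hf3; exact absurd hf3 (by decide)
  · rw [hm] at hf1 hf3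
    have h8 := Nat.dvd_gcd hf1 hf2
    rw [show Nat.gcd (5 ^ 6 * 209) 2520 = 5 by norm_num] at h8
    rcases (Nat.dvd_prime (by norm_num)).1 h8 with h9 | h9
    · rw [h9] at hf3; exact absurd hf3 (by decide)
    · rw [h9] at hf3; exact absurd hf3 (by decide)

theorem row_model (h2 : 2 ∈ π) (h3 : 3 ∈ π) (hD : DC π G) : PiGrp π G := fun p hp hd =>
  good_of_five h2 h3 (five_mem h2 h3 hD) (DT.of_dPi hD.isDPi h2) p hp hd

theorem row_HN {S : Type*} [Group S] [Finite S] (h : Cfsg.Spor.IsoHN S) {π : Set ℕ} (h2 : 2 ∈ π) (h3 : 3 ∈ π)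
    (hD : DC π S) : PiGrp π S := by
  obtain ⟨e⟩ := h
  intro p hp hd
  exact row_model h2 h3 (hD.congr e) p hp (by rwa [← Nat.card_congr e.toEquiv])

end Cfsg.Agent.H841.PiBS.HN
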