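import Cfsg.Agent.H841.PiBS.Rows
import Cfsg.Agent.H841.PiBS.HNRow
import Cfsg.Agent.H173.PiBS.He
import Cfsg.Agent.H327.PB.Tits
import Cfsg.Agent.H422.PiSuz
import Cfsg.Agent.H663.PiBSRu
import Cfsg.Agent.H809.PiBS.ON
import Cfsg.Agent.H982.PiJ
import Cfsg.Agent.H543.PiBS.J1
import Cfsg.Agent.H543.PiBS.M11
import Cfsg.Agent.H555.PiBS.HS
import Cfsg.Agent.H555.PiBS.McL
import Cfsg.Agent.H171.PiBS.JFour
import Cfsg.Agent.H861.PiS.CoOneRow
import Cfsg.Agent.H861.PiS.CoTwoRow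
import Cfsg.Agent.H861.PiS.CoThreeRow
import Cfsg.Agent.H861.PiS.ThRow
import Cfsg.Agent.H861.PiS.LyRow
import Cfsg.Agent.H861.PiS.BabyRow
import Cfsg.Agent.NotCT.Orders
import Cfsg.Agent.H783.PglSpor

/-!
# S3876: the sporadic groups and the Tits group for `2, 3 ∈ π` (helper841)

`sporA`, `titsA` : `2, 3 ∈ π` and the Sylow theorem for `π` (`DC π S`) imply that `S` is a π-group.
-/

set_option autoImplicit false

namespace Cfsg.Agent.H841.PiBS

open Cfsg Subgroup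
open Cfsg.Agent.H543.PiBS (DC PiGrp)

universe u

variable {π : Set ℕ} {S : Type u} [Group S] [Finite S]

/-- **The 26 sporadic groups.** -/
theorem sporA [IsSimpleGroup S] (hs : IsSporadicGroup S) (h2 : 2 ∈ π) (h3 : 3 ∈ π) (hD : DC π S) : PiGrp π S := by
  rcases hs with h | h | h | h | h | h | h | h | h | h | h | h | h | h | h | h | h | h | h | h | h | h | h | h | h | h
  · exact H543.PiBS.row_M11 h h2 h3 hD
  · exact H543.PiBS.row_M12 h h2 h3 hD
  · exact Rows.good_m22 h2 h3 h hD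
  · exact Rows.good_m23 h2 h3 h hD
  · exact Rows.good_m24 h2 h3 h hD
  · exact H543.PiBS.row_J1 h h2 h3 hD
  · exact H982.PiJ.row_J2 h h2 h3 hD
  · exact H982.PiJ.row_J3 h h2 h3 hD
  · exact H171.PiBS.row_J4 h h2 h3 hD
  · exact H861.PiS.CoOneRow.row_Co1 h h2 h3 hD
  · exact H861.PiS.CoTwoRow.row_Co2 h h2 h3 hD
  · exact H861.PiS.CoThreeRow.row_Co3 h h2 h3 hD
  · exact H555.PiBS.McL.row_McL h h2 h3 hD
  · exact H555.PiBS.HS.row_HS h h2 h3 hD
  · exact H422.PiSuz.row_suz h h2 h3 hD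
  · exact H173.PiBS.row_He h h2 h3 hD
  · exact H663.PiBSRu.row_ru h h2 h3 hD
  · exact H809.PiBS.row_ON h h2 h3 hD
  · exact H861.PiS.LyRow.row_Ly h h2 h3 hD
  · exact Rows.good_fi22 h2 h3 (NotCT.Orders.fi22 h) h hD
  · exact Rows.good_fi23 h2 h3 h hD
  · exact Rows.good_fi24 h2 h3 h hD
  · exact HN.row_HN h h2 h3 hD
  · exact H861.PiS.ThRow.row_Th h h2 h3 hD
  · exact H861.PiS.BabyRow.row_B h h2 h3 hD
  · exact H861.PiS.CoOneRow.row_M h h2 h3 hD

/-- **The Tits group.** -/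
theorem titsA (hs : Lie.IsoTits S) (h2 : 2 ∈ π) (h3 : 3 ∈ π) (hD : DC π S) : PiGrp π S :=
  H327.PB.row_Tits hs h2 h3 hD

omit [Finite S] in
theorem index_le (h : (MulAut.conj : S →* MulAut S).range.index ∣ 2) :
    (MulAut.conj : S →* MulAut S).range.index ≤ 2 := Nat.le_of_dvd (by norm_num) h

/-- **The rows of the sporadic groups in S3876 for `2, 3 ∈ π`.** -/
theorem sporA_row [IsSimpleGroup S] (hs : IsSporadicGroup S) (h2 : 2 ∈ π) (h3 : 3 ∈ π) : H469.PiBS.Row π S :=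
  Rows.row_of_dc (index_le (H783.PglSpor.index_spor hs)) h2 (sporA hs h2 h3)

/-- **The row of the Tits group in S3876 for `2, 3 ∈ π`.** -/
theorem titsA_row (hs : Lie.IsoTits S) (h2 : 2 ∈ π) (h3 : 3 ∈ π) : H469.PiBS.Row π S :=
  Rows.row_of_dc (index_le (H783.PglSpor.index_tits hs)) h2 (titsA hs h2 h3)

end Cfsg.Agent.H841.PiBS
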