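import Mathlib
import Cfsg.Prelude.Def_HallClasses

/-!
# S3876: descent of `D_π` (`r ∈ π`, any prime `r`) to `r`-local subgroups (helper841; copy of `Desc` with `2` replaced by `r`)
-/

set_option autoImplicit false
set_option linter.unusedSectionVars false

namespace Cfsg.Agent.H841.PiBSr

open Cfsg Subgroup

universe u v

/-- a `π`-subgroup of odd index -/
structure OddPi {G : Type u} [Group G] (r : ℕ) (π : Set ℕ) (H : Subgroup G) : Prop where
  pi : IsPiSubgroup π H
  odd : ¬ r ∣ H.index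

/-- there is a `π`-subgroup of odd index containing conjugates of all `π`-subgroups of odd index -/
def DT (r : ℕ) (π : Set ℕ) (G : Type u) [Group G] : Prop :=
  ∃ H : Subgroup G, OddPi r π H ∧ ∀ U : Subgroup G, OddPi r π U → ∃ g : G, U.map (MulAut.conj g).toMonoidHom ≤ H

section basic

variable {G : Type u} [Group G] {r : ℕ} [hr : Fact r.Prime] {π : Set ℕ}

theorem mem_map_conj {U : Subgroup G} {g x : G} :
    x ∈ U.map (MulAut.conj g).toMonoidHom ↔ g⁻¹ * x * g ∈ U := by
  constructor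
  · rintro ⟨y, hy, rfl⟩
    have e : g⁻¹ * (MulAut.conj g).toMonoidHom y * g = y := by
      show g⁻¹ * (g * y * g⁻¹) * g = y
      group
    rw [e]
    exact hy
  · intro h
    refine ⟨g⁻¹ * x * g, h, ?_⟩
    show g * (g⁻¹ * x * g) * g⁻¹ = x
    group

theorem conj_mem_map {U : Subgroup G} {g x : G} (h : x ∈ U) : g * x * g⁻¹ ∈ U.map (MulAut.conj g).toMonoidHom :=
  ⟨x, h, rfl⟩

theorem card_map_conj (U : Subgroup G) (g : G) : Nat.card (U.map (MulAut.conj g).toMonoidHom) = Nat.card U :=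
  Nat.card_congr (U.equivMapOfInjective _ (MulAut.conj g).injective).symm.toEquiv

theorem index_map_conj (U : Subgroup G) (g : G) : (U.map (MulAut.conj g).toMonoidHom).index = U.index := by
  rw [Subgroup.index_map]
  have h1 : (MulAut.conj g).toMonoidHom.ker = ⊥ := (MonoidHom.ker_eq_bot_iff _).2 (MulAut.conj g).injective
  have h2 : (MulAut.conj g).toMonoidHom.range = ⊤ := MonoidHom.range_eq_top.2 (MulAut.conj g).surjective
  rw [h1, h2, sup_bot_eq, index_top, mul_one]

theorem map_conj_map_conj (U : Subgroup G) (g h : G) :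
    (U.map (MulAut.conj g).toMonoidHom).map (MulAut.conj h).toMonoidHom = U.map (MulAut.conj (h * g)).toMonoidHom := by
  ext x
  rw [mem_map_conj, mem_map_conj, mem_map_conj]
  have e : g⁻¹ * (h⁻¹ * x * h) * g = (h * g)⁻¹ * x * (h * g) := by group
  rw [e]

theorem isPi_of_le [Finite G] {H K : Subgroup G} (h : IsPiSubgroup π K) (hHK : H ≤ K) : IsPiSubgroup π H :=
  fun p hp hd => h p hp (hd.trans (card_dvd_of_le hHK))

theorem isPi_map {G' : Type v} [Group G'] {K : Subgroup G} (h : IsPiSubgroup π K) (f : G →* G') :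
    IsPiSubgroup π (K.map f) :=
  fun p hp hd => h p hp (hd.trans (card_map_dvd K f))

theorem OddPi.conj {H : Subgroup G} (h : OddPi r π H) (g : G) : OddPi r π (H.map (MulAut.conj g).toMonoidHom) := by
  refine ⟨isPi_map h.pi _, ?_⟩
  rw [index_map_conj]
  exact h.odd

theorem OddPi.exists_sylow [Finite G] {H : Subgroup G} (h : OddPi r π H) (T : Sylow r G) :
    ∃ g : G, (T : Subgroup G).map (MulAut.conj g).toMonoidHom ≤ H := by
  obtain ⟨S⟩ : Nonempty (Sylow r H) := inferInstance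
  have hS : IsPGroup r ↥((S : Subgroup H).map H.subtype) := S.isPGroup'.map _
  have hc : ¬ r ∣ ((S : Subgroup H).map H.subtype).index := by
    rw [← relIndex_mul_index (map_subtype_le (S : Subgroup H)), hr.out.dvd_mul, not_or]
    refine ⟨?_, h.odd⟩
    have h1 : ((S : Subgroup H).map H.subtype).relIndex H = (S : Subgroup H).index := by
      rw [relIndex, subgroupOf, comap_map_eq_self_of_injective H.subtype_injective]
    rw [h1]
    exact S.not_dvd_index
  let P : Sylow r G := hS.toSylow hc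
  obtain ⟨g, hg⟩ := MulAction.exists_smul_eq G T P
  refine ⟨g, ?_⟩
  intro x hx
  have h1 : x ∈ (P : Subgroup G) := by
    rw [← hg]
    rw [mem_map_conj] at hx
    show x ∈ ((g • T : Sylow r G) : Subgroup G)
    rw [Sylow.coe_subgroup_smul, Subgroup.mem_pointwise_smul_iff_inv_smul_mem]
    rw [← map_inv, MulAut.smul_def, MulAut.conj_apply, inv_inv]
    exact hx
  exact map_subtype_le _ h1

/-- two Sylow subgroups inside `H` are conjugate in `H` -/
theorem exists_conj_in [Finite G] {H : Subgroup G} (T : Sylow r G) (hT : (T : Subgroup G) ≤ H) {g : G}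
    (hg : (T : Subgroup G).map (MulAut.conj g).toMonoidHom ≤ H) :
    ∃ h ∈ H, (T : Subgroup G).map (MulAut.conj (h * g)).toMonoidHom = T := by
  let P : Sylow r H := T.subtype hT
  let T' : Sylow r G := g • T
  have hT'e : (T' : Subgroup G) = (T : Subgroup G).map (MulAut.conj g).toMonoidHom := rfl
  have hT' : (T' : Subgroup G) ≤ H := by rw [hT'e]; exact hg
  let P' : Sylow r H := T'.subtype hT'
  obtain ⟨h, hh⟩ := MulAction.exists_smul_eq H P' P
  refine ⟨(h : G), h.2, ?_⟩
  rw [← map_conj_map_conj, ← hT'e]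
  ext x
  rw [mem_map_conj]
  constructor
  · intro hx
    have hxH : x ∈ H := by
      have h1 := H.mul_mem (H.mul_mem h.2 (hT' hx)) (H.inv_mem h.2)
      have e : (h : G) * ((h : G)⁻¹ * x * (h : G)) * (h : G)⁻¹ = x := by group
      rwa [e] at h1
    have h2 : (⟨x, hxH⟩ : H) ∈ ((h • P' : Sylow r H) : Subgroup H) := by
      rw [Sylow.coe_subgroup_smul, Subgroup.mem_pointwise_smul_iff_inv_smul_mem, ← map_inv, MulAut.smul_def,
        MulAut.conj_apply, inv_inv]
      show _ ∈ (P' : Subgroup H)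
      rw [Sylow.coe_subtype, mem_subgroupOf]
      exact hx
    rw [hh] at h2
    have h3 : (⟨x, hxH⟩ : H) ∈ (P : Subgroup H) := h2
    rw [Sylow.coe_subtype, mem_subgroupOf] at h3
    exact h3
  · intro hx
    have h3 : (⟨x, hT hx⟩ : H) ∈ (P : Subgroup H) := by
      rw [Sylow.coe_subtype, mem_subgroupOf]
      exact hx
    have h2 : (⟨x, hT hx⟩ : H) ∈ ((h • P' : Sylow r H) : Subgroup H) := by rw [hh]; exact h3
    rw [Sylow.coe_subgroup_smul, Subgroup.mem_pointwise_smul_iff_inv_smul_mem, ← map_inv, MulAut.smul_def,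
      MulAut.conj_apply, inv_inv] at h2
    have h4 : (h⁻¹ * (⟨x, hT hx⟩ : H) * h) ∈ (P' : Subgroup H) := h2
    rw [Sylow.coe_subtype, mem_subgroupOf] at h4
    exact h4

end basic

section main

variable {G : Type u} [Group G] [Finite G] {r : ℕ} [hr : Fact r.Prime] {π : Set ℕ}

/-- `D_π` and `2 ∈ π` imply `DT r π` -/
theorem DT.of_dPi (h : IsDPiGroup π G) (h2 : r ∈ π) : DT r π G := by
  obtain ⟨T⟩ : Nonempty (Sylow r G) := inferInstance
  have key : ∀ U : Subgroup G, IsPiSubgroup π U → ∃ M : Subgroup G, U ≤ M ∧ Maximal (IsPiSubgroup π) M := by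
    intro U hU
    obtain ⟨M, hM, hM'⟩ := (Set.toFinite {K : Subgroup G | IsPiSubgroup π K}).exists_le_maximal hU
    exact ⟨M, hM, hM'⟩
  have hT : IsPiSubgroup π (T : Subgroup G) := by
    intro p hp hd
    obtain ⟨n, hn⟩ := IsPGroup.iff_card.1 T.isPGroup'
    rw [hn] at hd
    rw [(Nat.prime_dvd_prime_iff_eq hp hr.out).1 (hp.dvd_of_dvd_pow hd)]
    exact h2
  obtain ⟨M, hTM, hM⟩ := key _ hT
  have hodd : ¬ r ∣ M.index := fun hd => T.not_dvd_index (hd.trans (index_dvd_of_le hTM))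
  refine ⟨M, ⟨hM.prop, hodd⟩, fun U hU => ?_⟩
  obtain ⟨M', hUM, hM'⟩ := key U hU.pi
  obtain ⟨g, hg⟩ := h M' M hM' hM
  refine ⟨g, ?_⟩
  rw [hg]
  exact map_mono hUM

/-- the basic step: `k ∈ N(T)` with `U ^ k ≤ H` -/
theorem exists_normalizer {H : Subgroup G} (T : Sylow r G) (hT : (T : Subgroup G) ≤ H) {U : Subgroup G}
    (hTU : (T : Subgroup G) ≤ U) {g : G} (hg : U.map (MulAut.conj g).toMonoidHom ≤ H) :
    ∃ k ∈ normalizer ((T : Subgroup G) : Set G), U.map (MulAut.conj k).toMonoidHom ≤ H := by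
  obtain ⟨h, hh, he⟩ := exists_conj_in T hT ((map_mono hTU).trans hg)
  refine ⟨h * g, ?_, ?_⟩
  · rw [mem_normalizer_iff]
    intro x
    constructor
    · intro hx
      rw [← he]
      exact conj_mem_map hx
    · intro hx
      rw [← he, mem_map_conj] at hx
      have e : (h * g)⁻¹ * (h * g * x * (h * g)⁻¹) * (h * g) = x := by group
      rwa [e] at hx
  · rw [← map_conj_map_conj]
    intro x hx
    rw [mem_map_conj] at hx
    have h1 := H.mul_mem (H.mul_mem hh (hg hx)) (H.inv_mem hh)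
    have e : h * (h⁻¹ * x * h) * h⁻¹ = x := by group
    rwa [e] at h1

/-- `H` may be chosen to contain `T` -/
theorem DT.exists_over (h : DT r π G) (T : Sylow r G) :
    ∃ H : Subgroup G, OddPi r π H ∧ (T : Subgroup G) ≤ H ∧ ∀ U : Subgroup G, IsPiSubgroup π U →
      (T : Subgroup G) ≤ U → ∃ k ∈ normalizer ((T : Subgroup G) : Set G), U.map (MulAut.conj k).toMonoidHom ≤ H := by
  obtain ⟨H, hH, hU⟩ := h
  obtain ⟨g, hg⟩ := hH.exists_sylow T
  have hT : (T : Subgroup G) ≤ H.map (MulAut.conj g⁻¹).toMonoidHom := by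
    intro x hx
    rw [mem_map_conj, inv_inv]
    exact hg (conj_mem_map hx)
  refine ⟨H.map (MulAut.conj g⁻¹).toMonoidHom, hH.conj _, hT, fun U hUp hTU => ?_⟩
  obtain ⟨k, hk⟩ := hU U ⟨hUp, fun hd => T.not_dvd_index (hd.trans (index_dvd_of_le hTU))⟩
  refine exists_normalizer T hT hTU (g := g⁻¹ * k) ?_
  rw [← map_conj_map_conj]
  exact map_mono hk

/-- `H` contains every `π`-overgroup of `T` that contains `N(T)` -/
theorem DT.exists_ge (h : DT r π G) (T : Sylow r G)
    (hN : IsPiSubgroup π (normalizer ((T : Subgroup G) : Set G))) :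
    ∃ H : Subgroup G, OddPi r π H ∧ ∀ U : Subgroup G, IsPiSubgroup π U → (T : Subgroup G) ≤ U → U ≤ H := by
  obtain ⟨H, hH, hTH, hU⟩ := h.exists_over T
  have hNH : normalizer ((T : Subgroup G) : Set G) ≤ H := by
    obtain ⟨k, hk, hle⟩ := hU _ hN le_normalizer
    intro x hx
    refine hle ?_
    rw [mem_map_conj]
    exact mul_mem (mul_mem (inv_mem hk) hx) hk
  refine ⟨H, hH, fun U hUp hTU => ?_⟩
  obtain ⟨k, hk, hle⟩ := hU U hUp hTU
  intro x hx
  have h1 : k * x * k⁻¹ ∈ H := hle (conj_mem_map hx)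
  have h2 := H.mul_mem (H.mul_mem (H.inv_mem (hNH hk)) h1) (hNH hk)
  have e : k⁻¹ * (k * x * k⁻¹) * k = x := by group
  rwa [e] at h2

/-- **the descent** -/
theorem DT.descend (h : DT r π G) (T : Sylow r G) {N : Subgroup G} (hTN : (T : Subgroup G) ≤ N)
    (hN : normalizer ((T : Subgroup G) : Set G) ≤ N) : DT r π N := by
  obtain ⟨H, hH, hTH, hU⟩ := h.exists_over T
  have hoN : ¬ r ∣ ((H ⊓ N).subgroupOf N).index := by
    intro hd
    have h1 : (T : Subgroup G).subgroupOf N ≤ (H ⊓ N).subgroupOf N := comap_mono (le_inf hTH hTN)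
    have h2 := hd.trans (index_dvd_of_le h1)
    have h3 : ((T : Subgroup G).subgroupOf N).index ∣ (T : Subgroup G).index := relIndex_dvd_index_of_le hTN
    exact T.not_dvd_index (h2.trans h3)
  have hpN : IsPiSubgroup π ((H ⊓ N).subgroupOf N) := by
    intro p hp hd
    refine hH.pi p hp (hd.trans ?_)
    have h1 : Nat.card ((H ⊓ N).subgroupOf N) = Nat.card (H ⊓ N : Subgroup G) :=
      Nat.card_congr (subgroupOfEquivOfLe inf_le_right).toEquiv
    rw [h1]
    exact card_dvd_of_le inf_le_left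
  refine ⟨(H ⊓ N).subgroupOf N, ⟨hpN, hoN⟩, fun U hUo => ?_⟩
  let P : Sylow r N := T.subtype hTN
  obtain ⟨n, hn⟩ := hUo.exists_sylow P
  -- `T ≤ U' := (U.map subtype) ^ (n⁻¹)`
  let U' : Subgroup G := (U.map (MulAut.conj n⁻¹).toMonoidHom).map N.subtype
  have hU'N : U' ≤ N := map_subtype_le _
  have hTU' : (T : Subgroup G) ≤ U' := by
    intro x hx
    refine ⟨⟨x, hTN hx⟩, ?_, rfl⟩
    rw [SetLike.mem_coe, mem_map_conj, inv_inv]
    refine hn (conj_mem_map ?_)
    show (⟨x, hTN hx⟩ : N) ∈ (P : Subgroup N)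
    rw [Sylow.coe_subtype, mem_subgroupOf]
    exact hx
  obtain ⟨k, hk, hle⟩ := hU U' (isPi_map (isPi_map hUo.pi _) _) hTU'
  have hkN : k ∈ N := hN hk
  refine ⟨⟨k, hkN⟩ * n⁻¹, ?_⟩
  rintro x ⟨y, hy, rfl⟩
  rw [mem_subgroupOf]
  refine ⟨?_, (((MulAut.conj ((⟨k, hkN⟩ : N) * n⁻¹)).toMonoidHom y : N)).2⟩
  have h1 : (((MulAut.conj n⁻¹).toMonoidHom y : N) : G) ∈ U' := ⟨_, ⟨y, hy, rfl⟩, rfl⟩
  have h2 := hle (conj_mem_map h1)
  have e : (((MulAut.conj ((⟨k, hkN⟩ : N) * n⁻¹)).toMonoidHom y : N) : G) =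
      k * (((MulAut.conj n⁻¹).toMonoidHom y : N) : G) * k⁻¹ := by
    show ((((⟨k, hkN⟩ : N) * n⁻¹) * y * ((⟨k, hkN⟩ : N) * n⁻¹)⁻¹ : N) : G) = k * ((n⁻¹ * y * n⁻¹⁻¹ : N) : G) * k⁻¹
    push_cast
    group
  rw [e]
  exact h2

omit [Finite G] in
/-- images under surjections with `π`-kernel -/
theorem DT.of_surjective {G' : Type v} [Group G'] (h : DT r π G) (f : G →* G') (hf : Function.Surjective f)
    (hk : IsPiSubgroup π f.ker) : DT r π G' := by
  obtain ⟨H, hH, hU⟩ := h
  refine ⟨H.map f, ⟨isPi_map hH.pi f, fun hd => hH.odd (hd.trans (index_map_dvd H hf))⟩, fun U hUo => ?_⟩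
  have hUp : IsPiSubgroup π (U.comap f) := by
    intro p hp hd
    have h1 : Nat.card (U.comap f) = Nat.card U * Nat.card f.ker := by
      let φ : U.comap f →* U := f.subgroupComap U
      have hφ : Function.Surjective φ := f.subgroupComap_surjective_of_surjective U hf
      have h2 := Subgroup.card_eq_card_quotient_mul_card_subgroup φ.ker
      rw [Nat.card_congr (QuotientGroup.quotientKerEquivOfSurjective φ hφ).toEquiv] at h2
      rw [h2]
      congr 1
      refine Nat.card_congr ⟨fun x => ⟨(x : U.comap f), ?_⟩, fun x => ⟨⟨(x : G), ?_⟩, ?_⟩, ?_, ?_⟩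
      · have h3 : φ x = 1 := x.2
        exact congrArg Subtype.val h3
      · show f (x : G) ∈ U
        have h3 : f (x : G) = 1 := x.2
        rw [h3]; exact one_mem _
      · exact Subtype.ext x.2
      · intro x; rfl
      · intro x; rfl
    rw [h1] at hd
    rcases hp.dvd_mul.1 hd with h2 | h2
    · exact hUo.pi p hp h2
    · exact hk p hp h2
  obtain ⟨g, hg⟩ := hU (U.comap f) ⟨hUp, by rw [index_comap_of_surjective U hf]; exact hUo.odd⟩
  refine ⟨f g, ?_⟩
  rintro _ ⟨y, hy, rfl⟩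
  obtain ⟨z, rfl⟩ := hf y
  refine ⟨g * z * g⁻¹, hg (conj_mem_map hy), ?_⟩
  rw [map_mul, map_mul, map_inv]
  rfl

theorem DT.map_equiv {G' : Type v} [Group G'] (h : DT r π G) (e : G ≃* G') : DT r π G' := by
  refine h.of_surjective e.toMonoidHom e.surjective ?_
  intro p hp hd
  have h1 : e.toMonoidHom.ker = ⊥ := (MonoidHom.ker_eq_bot_iff _).2 e.injective
  rw [h1, card_bot] at hd
  exact absurd (Nat.dvd_one.1 hd) hp.one_lt.ne'

theorem DT.quot (h : DT r π G) (E : Subgroup G) [E.Normal] (hE : IsPiSubgroup π E) : DT r π (G ⧸ E) :=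
  h.of_surjective (QuotientGroup.mk' E) (QuotientGroup.mk'_surjective E) (by rw [QuotientGroup.ker_mk']; exact hE)

end main

end Cfsg.Agent.H841.PiBSr
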