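import Cfsg.Agent.H841.PiBS.Weak
import Cfsg.Agent.H841.PiBS.M23
import Cfsg.Agent.H841.PiBS.M24
import Cfsg.Agent.H836.JFi22
import Cfsg.Agent.H827.JFi
import Cfsg.Agent.Fischer.Fi23Simple

/-!
# S3876: `Fi22`, `Fi23`, `Fi24'` (helper841)

`fi22`, `fi23`, `fi24` : `2, 3 ∈ π` and `DC π S` imply that `S` is a π-group.
Descent to `2¹⁰:M22`, `2¹¹:M23`, `2¹¹:M24`, then the sieve with `r = 11`, `23`, `23`.
-/

set_option autoImplicit false

namespace Cfsg.Agent.H841.PiBS.Fi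

open Cfsg Cfsg.Spor Subgroup
open Cfsg.Agent.H841.PiBS
open Cfsg.Agent.KFacts.FiTTh Cfsg.Agent.KFacts.FiTTh.BasDef
open Cfsg.Agent.Fischer.Fi23Z (z0)
open Cfsg.Agent.H543.PiBS (DC PiGrp)

universe u

theorem isPi_of_sq {π : Set ℕ} (h2 : 2 ∈ π) {G : Type*} [Group G] [Finite G] {K : Subgroup G}
    (h : ∀ x ∈ K, x * x = 1) : IsPiSubgroup π K := by
  have hf : Fact (Nat.Prime 2) := ⟨Nat.prime_two⟩
  refine isPi_of_pGroup (p := 2) h2 fun x => ⟨1, Subtype.ext ?_⟩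
  show (x : G) ^ (2 ^ 1) = 1
  rw [pow_one, pow_two]
  exact h x x.2

/-- primes of an explicit number -/
theorem prime_mem {π : Set ℕ} {p : ℕ} (hp : p.Prime) {l : List (ℕ × ℕ)}
    (hl : ∀ e ∈ l, e.1.Prime ∧ e.1 ∈ π) (h : p ∣ (l.map fun e => e.1 ^ e.2).prod) : p ∈ π := by
  obtain ⟨a, ha, hd⟩ := (hp.prime.dvd_prod_iff).1 h
  obtain ⟨e, he, rfl⟩ := List.mem_map.1 ha
  rw [(Nat.prime_dvd_prime_iff_eq hp (hl e he).1).1 (hp.dvd_of_dvd_pow hd)]
  exact (hl e he).2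

/-! ### `Fi23` -/

theorem un23 : UN (A BasFi.e) := by
  refine ⟨fun x hx => BasInv.base.sq_A hx, fun B hB h2 hc => ?_⟩
  refine H836.JFi23.jdata.uniq B hB h2 ?_
  rwa [H836.JFi23.jdata.card] at hc

theorem m23 {π : Set ℕ} (h2 : 2 ∈ π) (h3 : 3 ∈ π) (h : DT π Fi23) : H861.PiS.PG π Spor.M23 := by
  have := BasInv.finite
  refine M23.good23 h2 h3 ?_
  refine (h.descend_un un23 BasInv.hodd).of_surjective BasInv.base.ind (Base.ind_surj BasInv.base) ?_
  refine isPi_of_sq h2 fun x hx => ?_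
  exact Subtype.ext (un23.sq x ((Base.ind_ker BasInv.base x).1 hx))

theorem fi23 {π : Set ℕ} (h2 : 2 ∈ π) (h3 : 3 ∈ π) (h : DC π Fi23) : PiGrp π Fi23 := by
  have := BasInv.finite
  have := Fischer.Fi23Simple.isFi23.1
  have hM := m23 h2 h3 (DT.of_dPi h.isDPi h2)
  have hc : Nat.card Spor.M23 = 10200960 := Cfsg.Agent.SporadicA.MathieuRecog.card_M23
  have h5 : 5 ∈ π := hM 5 (by norm_num) (by rw [hc]; norm_num)
  have h7 : 7 ∈ π := hM 7 (by norm_num) (by rw [hc]; norm_num)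
  have h11 : 11 ∈ π := hM 11 (by norm_num) (by rw [hc]; norm_num)
  have h23 : 23 ∈ π := hM 23 (by norm_num) (by rw [hc]; norm_num)
  refine piGrp_of_sieve (r := 23) h (by norm_num) h23
    (a := (([(2, 18), (3, 13), (5, 2), (7, 1), (11, 1), (23, 1)] : List (ℕ × ℕ)).map fun e => e.1 ^ e.2).prod)
    (b := 221) ?_ (fun p hp hd => prime_mem hp ?_ hd) ?_ (by decide +kernel)
  · rw [Fischer.Fi23Simple.card_Fi23]
    decide +kernel
  · simp only [List.mem_cons, List.not_mem_nil, or_false, forall_eq_or_imp, forall_eq]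
    exact ⟨⟨by norm_num, h2⟩, ⟨by norm_num, h3⟩, ⟨by norm_num, h5⟩, ⟨by norm_num, h7⟩, ⟨by norm_num, h11⟩,
      ⟨by norm_num, h23⟩⟩
  · decide +kernel

/-! ### `Fi22` -/

theorem exists_m0 : ∃ m ∈ Spor.M23, m (some 13) = some 0 := by
  obtain ⟨m, hm⟩ := BasCode.exists_map_emb (n := 2) (by norm_num)
    ⟨![none, some 13], by
      intro x y
      fin_cases x <;> fin_cases y <;> simp⟩
    ⟨![none, some 0], by
      intro x y
      fin_cases x <;> fin_cases y <;> simp⟩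
  exact ⟨m, BasDef.mem_M23.2 ⟨m.2, hm 0⟩, hm 1⟩

/-- `C(z0)` -/
abbrev C0 : Subgroup Fi23 := centralizer ({z0} : Set Fi23)

/-- the preimage of `2¹⁰:M22` in `2.Fi22` -/
abbrev N0 : Subgroup C0 := (normalizer (A BasFi.e : Set Fi23)).subgroupOf C0

theorem ind_13 {n : ↥(normalizer (A BasFi.e : Set Fi23))} (hn : (n : Fi23) * z0 = z0 * n) :
    ((BasInv.base.ind n : Spor.M23) : Equiv.Perm GolayPt) (some 13) = some 13 := by
  have h1 := Base.ind_spec BasInv.base n (some 13)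
  rw [BasFi.e_z, hn, mul_inv_cancel_right, ← BasFi.e_z] at h1
  exact (BasInv.base.inj h1).symm

theorem exists_phi : ∃ φ : N0 →* Spor.M22, Function.Surjective φ ∧ ∀ x, φ x = 1 → x * x = 1 := by
  obtain ⟨m0, hm0, h0⟩ := exists_m0
  let j : N0 →* ↥(normalizer (A BasFi.e : Set Fi23)) :=
    { toFun := fun x => ⟨((x : C0) : Fi23), mem_subgroupOf.1 x.2⟩
      map_one' := rfl
      map_mul' := fun x y => rfl }
  have hjc : ∀ x : N0, ((j x : ↥(normalizer (A BasFi.e : Set Fi23))) : Fi23) * z0 = z0 * (j x : Fi23) := fun x =>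
    mem_centralizer_singleton_iff.1 (x : C0).2
  let ψ : N0 →* Equiv.Perm GolayPt :=
    (MulAut.conj m0).toMonoidHom.comp ((Spor.M23.subtype.comp BasInv.base.ind).comp j)
  have hψ : ∀ x, ψ x = m0 * ((BasInv.base.ind (j x) : Spor.M23) : Equiv.Perm GolayPt) * m0⁻¹ := fun x => rfl
  have hmem : ∀ x, ψ x ∈ Spor.M22 := by
    intro x
    rw [hψ]
    refine Subgroup.mem_inf.2 ⟨mul_mem (mul_mem hm0 (BasInv.base.ind (j x)).2) (inv_mem hm0), ?_⟩
    rw [MulAction.mem_stabilizer_iff]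
    show m0 (((BasInv.base.ind (j x) : Spor.M23) : Equiv.Perm GolayPt) (m0⁻¹ (some 0))) = some 0
    have h1 : m0⁻¹ (some 0) = some 13 := by rw [Equiv.Perm.inv_eq_iff_eq, h0]
    rw [h1, ind_13 (hjc x), h0]
  refine ⟨ψ.codRestrict Spor.M22 hmem, ?_, ?_⟩
  · rintro ⟨m, hm⟩
    have hm' : m0⁻¹ * m * m0 ∈ Spor.M23 := mul_mem (mul_mem (inv_mem hm0) hm.1) hm0
    obtain ⟨n, hn⟩ := BasInv.base.full _ hm'
    have hnN : n ∈ normalizer (A BasFi.e : Set Fi23) := Base.mem_normalizer_of hn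
    have hnz : n * z0 = z0 * n := by
      have h1 := hn (some 13)
      have h2 : (m0⁻¹ * m * m0) (some 13) = some 13 := by
        show m0⁻¹ (m (m0 (some 13))) = some 13
        rw [h0]
        have h3 : m (some 0) = some 0 := hm.2
        rw [h3, Equiv.Perm.inv_eq_iff_eq, h0]
      rw [h2, BasFi.e_z] at h1
      exact mul_inv_eq_iff_eq_mul.1 h1
    refine ⟨⟨⟨n, mem_centralizer_singleton_iff.2 hnz⟩, mem_subgroupOf.2 hnN⟩, Subtype.ext ?_⟩
    show m0 * ((BasInv.base.ind ⟨n, hnN⟩ : Spor.M23) : Equiv.Perm GolayPt) * m0⁻¹ = m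
    rw [Base.ind_eq BasInv.base (n := ⟨n, hnN⟩) hn]
    group
  · intro x hx
    have h1 : ψ x = 1 := congrArg Subtype.val hx
    rw [hψ] at h1
    have h2 : ((BasInv.base.ind (j x) : Spor.M23) : Equiv.Perm GolayPt) = 1 := by
      have e : ((BasInv.base.ind (j x) : Spor.M23) : Equiv.Perm GolayPt) =
          m0⁻¹ * (m0 * ((BasInv.base.ind (j x) : Spor.M23) : Equiv.Perm GolayPt) * m0⁻¹) * m0 := by group
      rw [e, h1, mul_one, inv_mul_cancel]
    have h3 := un23.sq _ ((Base.ind_ker BasInv.base (j x)).1 (Subtype.ext h2))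
    exact Subtype.ext (Subtype.ext h3)

theorem m22 {π : Set ℕ} (h2 : 2 ∈ π) (h3 : 3 ∈ π) (h : DT π Fi22) : H861.PiS.PG π Spor.M22 := by
  have := BasInv.finite
  have hl := R08.FlagData.lifted
  have hC : DT π C0 := by
    refine h.comap R08.FlagData.pi' hl.ext.surj (isPi_of_sq h2 fun x hx => ?_)
    rcases (hl.ext.ker x).1 hx with rfl | rfl
    · exact one_mul 1
    · exact hl.ext.zz
  have hN : DT π N0 := hC.descend_un_in un23 (H836.Thompson.JData.le_cent H836.JFi23.jdata H836.JFi22.z0_mem)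
    (H836.Thompson.JData.odd_centralizer H836.JFi23.jdata R08.FiTwentyThree.z0_mem_D H836.JFi22.z0_mem)
  obtain ⟨φ, hφ, hk⟩ := exists_phi
  exact M23.good22 h2 h3 (hN.of_surjective φ hφ (isPi_of_sq h2 fun x hx => hk x hx))

theorem fi22 {π : Set ℕ} (h2 : 2 ∈ π) (h3 : 3 ∈ π) [Finite Fi22] [IsSimpleGroup Fi22]
    (hcard : Nat.card Fi22 = 64561751654400) (h : DC π Fi22) : PiGrp π Fi22 := by
  have hM := m22 h2 h3 (DT.of_dPi h.isDPi h2)
  have hc : Nat.card Spor.M22 = 443520 := Cfsg.Agent.SporadicA.MathieuRecog.card_M22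
  have h5 : 5 ∈ π := hM 5 (by norm_num) (by rw [hc]; norm_num)
  have h7 : 7 ∈ π := hM 7 (by norm_num) (by rw [hc]; norm_num)
  have h11 : 11 ∈ π := hM 11 (by norm_num) (by rw [hc]; norm_num)
  refine piGrp_of_sieve (r := 11) h (by norm_num) h11
    (a := (([(2, 17), (3, 9), (5, 2), (7, 1), (11, 1)] : List (ℕ × ℕ)).map fun e => e.1 ^ e.2).prod)
    (b := 13) ?_ (fun p hp hd => prime_mem hp ?_ hd) ?_ (by decide +kernel)
  · rw [hcard]
    decide +kernel
  · simp only [List.mem_cons, List.not_mem_nil, or_false, forall_eq_or_imp, forall_eq]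
    exact ⟨⟨by norm_num, h2⟩, ⟨by norm_num, h3⟩, ⟨by norm_num, h5⟩, ⟨by norm_num, h7⟩, ⟨by norm_num, h11⟩⟩
  · decide +kernel

/-! ### `Fi24'` -/

open Cfsg.Agent.H827 in
theorem un24 : UN Coco.AA := by
  refine ⟨fun x hx => CocoD.pre.sq_A hx, fun B hB h2 hc => ?_⟩
  exact JFi.uniqN.uniq B hB (H836.Thompson.elementary_iff.2 h2) hc

open Cfsg.Agent.H827 in
theorem m24 {π : Set ℕ} (h2 : 2 ∈ π) (h3 : 3 ∈ π) (h : DT π Spor.Fi24') : H861.PiS.PG π Cfsg.M24 := by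
  have := JFi.finite
  refine M24.good h2 h3 ?_
  refine (h.descend_un un24 Coco.odd_index).of_surjective Coco.ind Coco.ind_surj ?_
  refine isPi_of_sq h2 fun x hx => ?_
  exact Subtype.ext (un24.sq x ((Coco.ind_ker x).1 hx))

open Cfsg.Agent.H827 in
theorem fi24 {π : Set ℕ} (h2 : 2 ∈ π) (h3 : 3 ∈ π) (h : DC π Spor.Fi24') : PiGrp π Spor.Fi24' := by
  have := JFi.finite
  have := CocoD.simple
  have hM := m24 h2 h3 (DT.of_dPi h.isDPi h2)
  have hc : Nat.card Cfsg.M24 = 244823040 := SporadicA.M24Trans.card_M24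
  have h5 : 5 ∈ π := hM 5 (by norm_num) (by rw [hc]; norm_num)
  have h7 : 7 ∈ π := hM 7 (by norm_num) (by rw [hc]; norm_num)
  have h11 : 11 ∈ π := hM 11 (by norm_num) (by rw [hc]; norm_num)
  have h23 : 23 ∈ π := hM 23 (by norm_num) (by rw [hc]; norm_num)
  refine piGrp_of_sieve (r := 23) h (by norm_num) h23
    (a := (([(2, 21), (3, 16), (5, 2), (7, 3), (11, 1), (23, 1)] : List (ℕ × ℕ)).map fun e => e.1 ^ e.2).prod)
    (b := 6409) ?_ (fun p hp hd => prime_mem hp ?_ hd) ?_ (by decide +kernel)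
  · rw [CocoD.card_eq]
    decide +kernel
  · simp only [List.mem_cons, List.not_mem_nil, or_false, forall_eq_or_imp, forall_eq]
    exact ⟨⟨by norm_num, h2⟩, ⟨by norm_num, h3⟩, ⟨by norm_num, h5⟩, ⟨by norm_num, h7⟩, ⟨by norm_num, h11⟩,
      ⟨by norm_num, h23⟩⟩
  · decide +kernel

end Cfsg.Agent.H841.PiBS.Fi
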