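import Cfsg.Agent.H841.PiBS.Desc
import Cfsg.Agent.OddOrderLocal.PiCoreOf

/-!
# S3876: minimal parabolics (helper841)

`mem_of_par` : `T ≤ Q ⟨t⟩`, `Q` a π-group normalised by the involution `t` and by `y` of order 3 inverted by `t`:
if `H` contains every π-subgroup `U ≥ T`, then `y ∈ H` (`2, 3 ∈ π`).
-/

set_option autoImplicit false

namespace Cfsg.Agent.H841.PiBS

open Cfsg Subgroup

universe u v

variable {G : Type u} [Group G] {π : Set ℕ}

theorem isPi_sup {H N : Subgroup G} (h : H ≤ normalizer (N : Set G)) (hH : IsPiSubgroup π H)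
    (hN : IsPiSubgroup π N) : IsPiSubgroup π (H ⊔ N) :=
  OddOrderLocal.PiCoreOf.isPi_sup h hH hN

theorem isPi_zpowers {g : G} {n : ℕ} (hn : n.Prime) (hnp : n ∈ π) (hg : g ^ n = 1) : IsPiSubgroup π (zpowers g) := by
  intro p hp hd
  rw [Nat.card_zpowers] at hd
  have h1 := hd.trans (orderOf_dvd_of_pow_eq_one hg)
  rw [(Nat.prime_dvd_prime_iff_eq hp hn).1 h1]
  exact hnp

theorem isPi_of_pGroup [Finite G] {p : ℕ} [Fact p.Prime] (hp : p ∈ π) {Q : Subgroup G} (hQ : IsPGroup p Q) :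
    IsPiSubgroup π Q := by
  intro r hr hd
  obtain ⟨n, hn⟩ := IsPGroup.iff_card.1 hQ
  rw [hn] at hd
  rw [(Nat.prime_dvd_prime_iff_eq hr (Fact.out : p.Prime)).1 (hr.dvd_of_dvd_pow hd)]
  exact hp

theorem mem_normalizer_of_conj [Finite G] {Q : Subgroup G} {g : G} (h : ∀ q ∈ Q, g * q * g⁻¹ ∈ Q) :
    g ∈ normalizer (Q : Set G) := by
  have h1 : Q.map (MulAut.conj g).toMonoidHom ≤ Q := by
    rintro _ ⟨q, hq, rfl⟩
    exact h q hq
  have h2 : Q.map (MulAut.conj g).toMonoidHom = Q :=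
    eq_of_le_of_card_ge h1 (card_map_conj Q g).ge
  rw [mem_normalizer_iff]
  intro x
  constructor
  · exact fun hx => h x hx
  · intro hx
    rw [← h2, mem_map_conj] at hx
    have e : g⁻¹ * (g * x * g⁻¹) * g = x := by group
    rwa [e] at hx

theorem mem_of_par [Finite G] (h2 : 2 ∈ π) (h3 : 3 ∈ π) {T H Q : Subgroup G}
    (hU : ∀ U : Subgroup G, IsPiSubgroup π U → T ≤ U → U ≤ H) (hQ : IsPiSubgroup π Q) {t y : G} (htt : t * t = 1)
    (hy : y * y * y = 1) (hty : t * y * t * y = 1) (hQt : ∀ q ∈ Q, t * q * t⁻¹ ∈ Q)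
    (hQy : ∀ q ∈ Q, y * q * y⁻¹ ∈ Q) (hT : T ≤ Q ⊔ zpowers t) : y ∈ H := by
  have hyp : IsPiSubgroup π (zpowers y) := isPi_zpowers Nat.prime_three h3 (by rw [pow_succ, pow_two]; exact hy)
  have htp : IsPiSubgroup π (zpowers t) := isPi_zpowers Nat.prime_two h2 (by rw [pow_two]; exact htt)
  have h1 : IsPiSubgroup π (zpowers y ⊔ Q) := isPi_sup (by
    rw [zpowers_le]; exact mem_normalizer_of_conj hQy) hyp hQ
  have hconj : ∀ q ∈ zpowers y ⊔ Q, t * q * t⁻¹ ∈ zpowers y ⊔ Q := by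
    have h3 : zpowers y ⊔ Q ≤ (zpowers y ⊔ Q).comap (MulAut.conj t).toMonoidHom := by
      refine sup_le ?_ ?_
      · rw [zpowers_le]
        show t * y * t⁻¹ ∈ zpowers y ⊔ Q
        have e : t * y * t⁻¹ = y⁻¹ := by
          have ht : t⁻¹ = t := inv_eq_of_mul_eq_one_left htt
          rw [ht]
          exact eq_inv_of_mul_eq_one_left hty
        rw [e]
        exact inv_mem (mem_sup_left (mem_zpowers y))
      · intro q hq
        exact mem_sup_right (hQt q hq)
    exact fun q hq => h3 hq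
  have h4 : IsPiSubgroup π (zpowers t ⊔ (zpowers y ⊔ Q)) := isPi_sup (by
    rw [zpowers_le]; exact mem_normalizer_of_conj hconj) htp h1
  refine hU _ h4 (hT.trans (sup_le ?_ ?_)) (mem_sup_right (mem_sup_left (mem_zpowers y)))
  · exact le_sup_right.trans le_sup_right
  · exact le_sup_left

theorem mem_pi_of_orderOf [Finite G] {H : Subgroup G} (hH : IsPiSubgroup π H) {g : G} (hg : g ∈ H) {p : ℕ}
    (hp : p.Prime) (hgp : g ^ p = 1) (hg1 : g ≠ 1) : p ∈ π := by
  refine hH p hp ?_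
  have h1 : orderOf g = p := by
    rcases (Nat.dvd_prime hp).1 (orderOf_dvd_of_pow_eq_one hgp) with h | h
    · exact absurd (orderOf_eq_one_iff.1 h) hg1
    · exact h
  rw [← h1]
  exact orderOf_dvd_natCard H hg

end Cfsg.Agent.H841.PiBS
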