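import Cfsg.Agent.H841.PiBS.DescP
import Cfsg.Agent.H841.PiBS.Par
import Cfsg.Agent.H543.PiBS.Gen

/-!
# S3876: the sieve (helper841)

`S` a finite simple group with the Sylow theorem for `π` (`DC π S`), `r ∈ π`, `n = |S|_{π'}`. The fixed points of a Sylow
`r`-subgroup `R` on `S/H` form an orbit of `N(R)` whose length `f` is a `π'`-number, so `f ∣ n` and `f ≡ n mod r`.
`piGrp_of_sieve` : if this forces `f = n`, then `S` is a π-group.
-/

set_option autoImplicit false

namespace Cfsg.Agent.H841.PiBS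

open Cfsg Subgroup
open Cfsg.Agent.H543.PiBS (DC PiGrp)

universe u

variable {S : Type u} [Group S] [Finite S] {π : Set ℕ}

/-- a Sylow `r`-subgroup inside a subgroup of index prime to `r` -/
theorem exists_sylow_le {r : ℕ} [hr : Fact r.Prime] {H : Subgroup S} (hH : ¬ r ∣ H.index) :
    ∃ R : Sylow r S, (R : Subgroup S) ≤ H := by
  obtain ⟨P⟩ : Nonempty (Sylow r H) := inferInstance
  have hP : IsPGroup r ↥((P : Subgroup H).map H.subtype) := P.isPGroup'.map _
  have hc : ¬ r ∣ ((P : Subgroup H).map H.subtype).index := by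
    rw [← relIndex_mul_index (map_subtype_le (P : Subgroup H)), hr.out.dvd_mul, not_or]
    refine ⟨?_, hH⟩
    have h1 : ((P : Subgroup H).map H.subtype).relIndex H = (P : Subgroup H).index := by
      rw [relIndex, subgroupOf, comap_map_eq_self_of_injective H.subtype_injective]
    rw [h1]
    exact P.not_dvd_index
  exact ⟨hP.toSylow hc, map_subtype_le _⟩

/-- the index of `N_H(R)` in `N(R)` is a `π'`-number -/
theorem relIndex_normalizer (h : DC π S) {H : Subgroup S} (hH : IsPiHall π H) {r : ℕ} [hr : Fact r.Prime]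
    (hrp : r ∈ π) (R : Sylow r S) (hR : (R : Subgroup S) ≤ H) {p : ℕ} (hp : p.Prime) (hpp : p ∈ π) :
    ¬ p ∣ H.relIndex (normalizer ((R : Subgroup S) : Set S)) := by
  have hpf : Fact p.Prime := ⟨hp⟩
  set N := normalizer ((R : Subgroup S) : Set S) with hN
  obtain ⟨P⟩ : Nonempty (Sylow p N) := inferInstance
  set P' : Subgroup S := (P : Subgroup N).map N.subtype with hP'
  have hP'N : P' ≤ N := map_subtype_le _
  have hP'p : IsPGroup p P' := P.isPGroup'.map _
  have hU : IsPiSubgroup π (P' ⊔ (R : Subgroup S)) :=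
    isPi_sup hP'N (isPi_of_pGroup hpp hP'p) (isPi_of_pGroup hrp R.isPGroup')
  obtain ⟨M, hM, hUM⟩ := h.d _ hU
  obtain ⟨g, hg⟩ := h.c M H hM hH
  have hgU : (P' ⊔ (R : Subgroup S)).map (MulAut.conj g).toMonoidHom ≤ H := by
    rw [hg]; exact map_mono hUM
  obtain ⟨k, hk, hkU⟩ := PiBSr.exists_normalizer R hR le_sup_right hgU
  have h1 : P'.map (MulAut.conj k).toMonoidHom ≤ H ⊓ N := by
    refine le_inf ((map_mono le_sup_left).trans hkU) ?_
    rintro _ ⟨x, hx, rfl⟩
    exact mul_mem (mul_mem hk (hP'N hx)) (inv_mem hk)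
  have h2 : Nat.card P' ∣ Nat.card (H ⊓ N : Subgroup S) := by
    rw [← card_map_conj P' k]
    exact card_dvd_of_le h1
  have h3 : Nat.card P' = Nat.card P :=
    (Nat.card_congr ((P : Subgroup N).equivMapOfInjective _ N.subtype_injective).toEquiv).symm
  have h4 : Nat.card (H ⊓ N : Subgroup S) = Nat.card (H.subgroupOf N) := by
    rw [← inf_subgroupOf_right]
    exact (Nat.card_congr (subgroupOfEquivOfLe inf_le_right).toEquiv).symm
  rw [h3, h4] at h2
  intro hd
  have h5 : (H.subgroupOf N).index ∣ (P : Subgroup N).index := by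
    have e1 := card_mul_index (H.subgroupOf N)
    have e2 := card_mul_index (P : Subgroup N)
    obtain ⟨c, hc⟩ := h2
    refine ⟨c, ?_⟩
    have h6 : Nat.card (P : Subgroup N) * ((H.subgroupOf N).index * c) =
        Nat.card (P : Subgroup N) * (P : Subgroup N).index := by
      rw [e2, ← e1, hc]; ring
    exact (Nat.eq_of_mul_eq_mul_left Nat.card_pos h6).symm
  exact P.not_dvd_index (hd.trans h5)

/-- **The sieve.** -/
theorem eq_top_of_sieve [IsSimpleGroup S] (h : DC π S) {H : Subgroup S} (hH : IsPiHall π H) {r : ℕ}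
    [hr : Fact r.Prime] (hrp : r ∈ π) (hrS : r ∣ Nat.card S)
    (hf : ∀ f, f ∣ H.index → f ≡ H.index [MOD r] → f = H.index) : H = ⊤ := by
  have hri : ¬ r ∣ H.index := fun hd => hH.2 r hr.out hrp hd
  obtain ⟨R, hR⟩ := exists_sylow_le hri
  set N := normalizer ((R : Subgroup S) : Set S) with hN
  -- the fixed points
  have hfix : MulAction.fixedPoints (R : Subgroup S) (S ⧸ H) = MulAction.orbit N ((1 : S) : S ⧸ H) := by
    ext x
    induction x using QuotientGroup.induction_on with
    | H g =>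
      constructor
      · intro hx
        have h1 : (R : Subgroup S).map (MulAut.conj g⁻¹).toMonoidHom ≤ H := by
          rintro _ ⟨y, hy, rfl⟩
          have h2 : (⟨y, hy⟩ : (R : Subgroup S)) • ((g : S) : S ⧸ H) = ((g : S) : S ⧸ H) := hx ⟨y, hy⟩
          have h3 : ((y * g : S) : S ⧸ H) = ((g : S) : S ⧸ H) := h2
          rw [eq_comm, QuotientGroup.eq] at h3
          show g⁻¹ * y * g⁻¹⁻¹ ∈ H
          rwa [inv_inv, mul_assoc]
        obtain ⟨k, hk, hke⟩ := PiBSr.exists_conj_in R hR h1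
        have hn : g * k⁻¹ ∈ N := by
          have h2 : (k * g⁻¹) ∈ N := by
            rw [hN, mem_normalizer_iff]
            intro y
            constructor
            · intro hy
              rw [← hke]
              exact conj_mem_map hy
            · intro hy
              rw [← hke, mem_map_conj] at hy
              have e : (k * g⁻¹)⁻¹ * (k * g⁻¹ * y * (k * g⁻¹)⁻¹) * (k * g⁻¹) = y := by group
              rwa [e] at hy
          have h3 := inv_mem h2
          have e : (k * g⁻¹)⁻¹ = g * k⁻¹ := by group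
          rwa [e] at h3
        refine ⟨⟨g * k⁻¹, hn⟩, ?_⟩
        show ((g * k⁻¹ * 1 : S) : S ⧸ H) = ((g : S) : S ⧸ H)
        rw [mul_one, QuotientGroup.eq]
        have e : (g * k⁻¹)⁻¹ * g = k := by group
        rw [e]; exact hk
      · rintro ⟨n, hn⟩ ⟨y, hy⟩
        have h1 : ((((n : S) * 1 : S)) : S ⧸ H) = ((g : S) : S ⧸ H) := hn
        rw [← h1]
        show ((y * ((n : S) * 1) : S) : S ⧸ H) = (((n : S) * 1 : S) : S ⧸ H)
        rw [eq_comm, QuotientGroup.eq]
        have h2 : (n : S)⁻¹ * y * (n : S)⁻¹⁻¹ ∈ (R : Subgroup S) := (mem_normalizer_iff.1 (inv_mem n.2) y).1 hy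
        have e : ((n : S) * 1)⁻¹ * (y * ((n : S) * 1)) = (n : S)⁻¹ * y * (n : S)⁻¹⁻¹ := by group
        rw [e]
        exact hR h2
  have hst : MulAction.stabilizer N ((1 : S) : S ⧸ H) = H.subgroupOf N := by
    ext n
    rw [MulAction.mem_stabilizer_iff, mem_subgroupOf]
    show ((((n : S) * 1 : S)) : S ⧸ H) = ((1 : S) : S ⧸ H) ↔ _
    rw [mul_one, eq_comm, QuotientGroup.eq]
    simp
  have hcard : Nat.card (MulAction.fixedPoints (R : Subgroup S) (S ⧸ H)) = H.relIndex N := by
    rw [hfix]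
    have h1 := MulAction.index_stabilizer N ((1 : S) : S ⧸ H)
    rw [hst] at h1
    exact h1.symm
  have hmod := R.isPGroup'.card_modEq_card_fixedPoints (S ⧸ H)
  rw [hcard] at hmod
  -- `f ∣ n`
  have hfd : H.relIndex N ∣ H.index := by
    have h1 : H.relIndex N ∣ Nat.card H * H.index := by
      rw [card_mul_index]
      exact (relIndex_dvd_card H N).trans (card_subgroup_dvd_card N)
    refine Nat.Coprime.dvd_of_dvd_mul_left ?_ h1
    by_contra hn
    obtain ⟨p, hp, h2, h3⟩ := Nat.Prime.not_coprime_iff_dvd.mp hn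
    exact relIndex_normalizer h hH hrp R hR hp (hH.1 p hp h3) h2
  have he := hf _ hfd (by rw [index]; exact hmod.symm)
  -- all points are fixed
  have hall : MulAction.fixedPoints (R : Subgroup S) (S ⧸ H) = Set.univ := by
    apply Set.eq_of_subset_of_ncard_le (Set.subset_univ _)
    rw [Set.ncard_univ]
    have h1 : (MulAction.fixedPoints (R : Subgroup S) (S ⧸ H)).ncard =
        Nat.card (MulAction.fixedPoints (R : Subgroup S) (S ⧸ H)) := rfl
    rw [h1, hcard, he]
    exact le_rfl
  have hRc : (R : Subgroup S) ≤ H.normalCore := by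
    intro y hy b
    have h1 : (⟨y, hy⟩ : (R : Subgroup S)) • ((b⁻¹ : S) : S ⧸ H) = ((b⁻¹ : S) : S ⧸ H) := by
      have h2 : ((b⁻¹ : S) : S ⧸ H) ∈ MulAction.fixedPoints (R : Subgroup S) (S ⧸ H) := by rw [hall]; trivial
      exact h2 ⟨y, hy⟩
    have h3 : ((y * b⁻¹ : S) : S ⧸ H) = ((b⁻¹ : S) : S ⧸ H) := h1
    rw [eq_comm, QuotientGroup.eq, inv_inv] at h3
    rwa [mul_assoc]
  rcases (inferInstance : H.normalCore.Normal).eq_bot_or_eq_top with h1 | h1
  · exfalso
    rw [h1, le_bot_iff] at hRc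
    have h2 : Nat.card (R : Subgroup S) = 1 := by rw [hRc, card_bot]
    have h3 := R.card_eq_multiplicity
    rw [h2] at h3
    have h4 : 0 < (Nat.card S).factorization r :=
      hr.out.factorization_pos_of_dvd Nat.card_pos.ne' hrS
    have h5 : 1 < r ^ (Nat.card S).factorization r := Nat.one_lt_pow h4.ne' hr.out.one_lt
    omega
  · rw [eq_top_iff, ← h1]
    exact normalCore_le H

/-- `S` is a π-group if the sieve has no survivors -/
theorem piGrp_of_sieve [IsSimpleGroup S] (h : DC π S) {r : ℕ} (hr : r.Prime) (hrp : r ∈ π) {a b : ℕ}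
    (hab : Nat.card S = a * b) (ha : ∀ p : ℕ, p.Prime → p ∣ a → p ∈ π) (hra : r ∣ a)
    (hb : ∀ i ∈ b.divisors, ∀ f ∈ i.divisors, f % r = i % r → f = i) : PiGrp π S := by
  have hrf : Fact r.Prime := ⟨hr⟩
  obtain ⟨H, hH⟩ := h.exists_hall
  have hb0 : b ≠ 0 := by
    rintro rfl
    rw [mul_zero] at hab
    exact Nat.card_pos.ne' hab
  have hi : H.index ∣ b := by
    have h1 : H.index ∣ a * b := by
      rw [← hab]
      exact H.index_dvd_card
    refine Nat.Coprime.dvd_of_dvd_mul_left ?_ h1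
    by_contra hn
    obtain ⟨p, hp, h2, h3⟩ := Nat.Prime.not_coprime_iff_dvd.mp hn
    exact hH.2 p hp (ha p hp h3) h2
  have htop : H = ⊤ := by
    refine eq_top_of_sieve h hH hrp (by rw [hab]; exact hra.mul_right b) fun f hf hm => ?_
    have h1 : H.index ≠ 0 := by
      intro h0
      rw [h0] at hi
      exact hb0 (Nat.eq_zero_of_zero_dvd hi)
    exact hb _ (Nat.mem_divisors.2 ⟨hi, hb0⟩) _ (Nat.mem_divisors.2 ⟨hf, h1⟩) hm
  intro p hp hd
  refine hH.1 p hp ?_
  rw [htop, card_top]
  exact hd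

end Cfsg.Agent.H841.PiBS
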