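import Cfsg.Agent.KFacts.HN.CentTwoHN
import Cfsg.Agent.KFacts.HN.Large
import Cfsg.Agent.KFacts.HN.Cards
import Cfsg.Agent.H841.PiBS.Sieve
import Cfsg.Agent.H841.PiBS.Par
import Cfsg.Agent.H861.PiS.Ext

/-!
# S3876: the row `HN`, I: the masks (helper841)

`R/⟨W0⟩` (masks `m < 256`) under `C(W0)/R`: the class of the mask `3` has 75 elements, its stabiliser preserves `{40, 43}`.
-/

set_option autoImplicit false

namespace Cfsg.Agent.H841.PiBS.HN

open Cfsg Subgroup
open Cfsg.Agent.HN.XMat Cfsg.Agent.HN.XStruct Cfsg.Agent.HN.XWords Cfsg.Agent.HN.XQuot Cfsg.Agent.HN.FusGen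
open Cfsg.Agent.HN.XInst Cfsg.Agent.HN.Pres Cfsg.Agent.HN.H0Basic Cfsg.Agent.HN.P1408
open Cfsg.Agent.KFacts.HN
open Cfsg.Agent.SporadicA.PermTab (band_eq_true allB allB_iff)

/-- the 75 masks and words for them -/
def L75 : List (ℕ × List ℕ) := [
  (3, []), (40, [0]), (85, [1]), (7, [2]), (43, [0, 0]), (39, [0, 1]), (129, [0, 2]), (19, [1, 0]), (76, [2,
  0]), (93, [2, 1]), (6, [2, 2]), (114, [0, 0, 1]), (134, [0, 0, 2]), (108, [0, 1, 0]), (127, [0, 1, 1]), (199,
  [0, 2, 0]), (208, [0, 2, 1]), (156, [0, 2, 2]), (91, [1, 0, 0]), (69, [1, 0, 1]), (23, [1, 0, 2]), (106, [2,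
  0, 0]), (224, [2, 0, 2]), (24, [2, 1, 0]), (22, [2, 1, 1]), (245, [2, 1, 2]), (77, [2, 2, 0]), (92, [2, 2,
  1]), (139, [0, 0, 2, 0]), (141, [0, 0, 2, 1]), (154, [0, 0, 2, 2]), (74, [0, 1, 0, 0]), (37, [0, 1, 0, 1]),
  (193, [0, 1, 0, 2]), (17, [0, 1, 1, 0]), (96, [0, 1, 1, 1]), (214, [0, 1, 1, 2]), (143, [0, 2, 0, 0]), (222,
  [0, 2, 0, 2]), (176, [0, 2, 1, 0]), (203, [0, 2, 1, 1]), (200, [0, 2, 1, 2]), (218, [0, 2, 2, 0]), (204, [0,
  2, 2, 1]), (246, [1, 0, 0, 2]), (63, [1, 0, 2, 0]), (121, [2, 0, 0, 1]), (194, [2, 0, 0, 2]), (227, [2, 0, 2,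
  0]), (249, [2, 0, 2, 1]), (120, [2, 1, 0, 0]), (21, [2, 1, 0, 1]), (62, [2, 1, 1, 0]), (237, [2, 1, 2, 2]),
  (107, [2, 2, 0, 0]), (229, [2, 2, 0, 2]), (25, [2, 2, 1, 0]), (240, [2, 2, 1, 2]), (168, [0, 0, 2, 1, 0]),
  (221, [0, 0, 2, 1, 1]), (61, [0, 0, 2, 1, 2]), (151, [0, 0, 2, 2, 0]), (144, [0, 0, 2, 2, 1]), (253, [0, 1, 1,
  2, 0]), (137, [0, 2, 0, 0, 1]), (146, [0, 2, 0, 2, 1]), (149, [0, 2, 1, 0, 0]), (172, [0, 2, 2, 1, 0]), (181,
  [1, 0, 0, 2, 1]), (234, [1, 0, 0, 2, 2]), (20, [1, 0, 2, 0, 0]), (60, [2, 0, 0, 1, 1]), (213, [2, 0, 0, 1,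
  2]), (254, [2, 0, 2, 0, 2]), (233, [2, 2, 1, 2, 1])]

/-- the 75 masks -/
def ms : List ℕ := L75.map Prod.fst

theorem chkL : L75.all (fun p => Nat.beq (app (mw p.2) 3) p.1) = true := by decide +kernel
theorem chkN : ms.Nodup := by decide +kernel
theorem chklen : ms.length = 75 := by decide +kernel
theorem chklt : ms.all (fun m => Nat.blt m 256) = true := by decide +kernel
theorem chkC : allB (fun g => ms.all (fun m => ms.elem (app (gen g) m))) 3 = true := by decide +kernel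
theorem chk3m : 3 ∈ ms := by decide +kernel

theorem gen_ge2 {g : ℕ} (h : 2 ≤ g) : gen g = gen 2 := by
  obtain ⟨k, rfl⟩ : ∃ k, g = k + 2 := ⟨g - 2, by omega⟩
  rfl

theorem closed_gen (g : ℕ) {m : ℕ} (hm : m ∈ ms) : app (gen g) m ∈ ms := by
  have key : ∀ g < 3, app (gen g) m ∈ ms := by
    intro g hg
    have h := List.all_eq_true.1 ((allB_iff _ _).1 chkC g hg) m hm
    exact List.elem_iff.1 h
  rcases Nat.lt_or_ge g 2 with h | h
  · exact key g (by omega)
  · rw [gen_ge2 h]; exact key 2 (by norm_num)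

theorem ms_lt {m : ℕ} (hm : m ∈ ms) : m < 256 := by
  have h := List.all_eq_true.1 chklt m hm
  rwa [Nat.blt_eq] at h

theorem closed (w : List ℕ) : ∀ {m : ℕ}, m ∈ ms → app (mw w) m ∈ ms := by
  induction w with
  | nil => intro m hm; rw [mw_nil, app_MI (ms_lt hm)]; exact hm
  | cons g w ih => intro m hm; rw [mw_cons, app_mul]; exact ih (closed_gen g hm)

theorem exists_word {m : ℕ} (hm : m ∈ ms) : ∃ w : List ℕ, app (mw w) 3 = m := by
  obtain ⟨p, hp, rfl⟩ := List.mem_map.1 hm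
  exact ⟨p.2, Nat.eq_of_beq_eq_true (List.all_eq_true.1 chkL p hp)⟩

/-! ### the class of `r k 3` -/

/-- the second involution modulo `W0` -/
noncomputable def r3 : KK W0 := r k 3

theorem conj_word (w : List ℕ) (m : ℕ) : (evw γ w)⁻¹ * r k m * evw γ w = r k (app (mw w) m) :=
  hyp.toBas.acts_r (hyp.toBas.acts_evw w) m

theorem mem_class {y : KK W0} : y ∈ (ConjClasses.mk r3).carrier ↔ ∃ m ∈ ms, r k m = y := by
  rw [ConjClasses.mem_carrier_iff_mk_eq, ConjClasses.mk_eq_mk_iff_isConj, isConj_comm, isConj_iff]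
  constructor
  · rintro ⟨c, rfl⟩
    obtain ⟨w, _, w', _, h⟩ := exists_acts c⁻¹
    refine ⟨app (mw w') (app (mw w) 3), closed _ (closed _ chk3m), ?_⟩
    rw [← app_mul, ← hyp.toBas.acts_r h, inv_inv]
    rfl
  · rintro ⟨m, hm, rfl⟩
    obtain ⟨w, hw⟩ := exists_word hm
    refine ⟨(evw γ w)⁻¹, ?_⟩
    rw [inv_inv]
    show (evw γ w)⁻¹ * r k 3 * evw γ w = _
    rw [conj_word, hw]

theorem index_centralizer {G : Type*} [Group G] [Finite G] (g : G) :
    (centralizer ({g} : Set G)).index = (ConjClasses.mk g).carrier.ncard := by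
  rw [Subgroup.centralizer_eq_comap_stabilizer, ← ConjAct.orbit_eq_carrier_conjClasses,
    ← MulAction.index_stabilizer]
  exact Subgroup.index_comap_of_surjective _ (MulEquiv.surjective _)

theorem index_C3 : (centralizer ({r3} : Set (KK W0))).index = 75 := by
  have := finite_HN
  rw [index_centralizer]
  have h1 : (ConjClasses.mk r3).carrier = (fun m => r k m) '' (ms.toFinset : Set ℕ) := by
    ext y
    rw [mem_class]
    simp
  rw [h1, Set.InjOn.ncard_image, Set.ncard_coe_finset, List.toFinset_card_of_nodup chkN, chklen]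
  intro a ha b hb hab
  simp only [List.coe_toFinset, Set.mem_ofPred_eq] at ha hb
  exact hyp.toBas.r_inj (ms_lt ha) (ms_lt hb) hab

theorem card_C3 : Nat.card (centralizer ({r3} : Set (KK W0))) = 24576 := by
  have := finite_HN
  have h1 := Subgroup.card_mul_index (centralizer ({r3} : Set (KK W0)))
  rw [index_C3, PCard.card_KK] at h1
  omega

/-! ### the stabiliser of `3` preserves `{40, 43}` -/

theorem chk40 : S5M.all (fun A => DM.all (fun B => force (mul A B) (fun M =>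
    bif Nat.beq (app M 3) 3 then (bif Nat.beq (app M 40) 40 then true else Nat.beq (app M 40) 43) else true))) = true := by
  decide +kernel

theorem app40 {w w' : List ℕ} (hw : w ∈ S5W) (hw' : w' ∈ DW) (h3 : app (mul (mw w) (mw w')) 3 = 3) :
    app (mul (mw w) (mw w')) 40 = 40 ∨ app (mul (mw w) (mw w')) 40 = 43 := by
  have h := List.all_eq_true.1 (List.all_eq_true.1 chk40 _ (mem_S5M hw)) _ (mem_DM hw')
  rw [force_eq] at h
  have h5 : Nat.beq (app (mul (mw w) (mw w')) 3) 3 = true := by rw [h3]; rfl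
  rw [h5, cond_true] at h
  cases h4 : Nat.beq (app (mul (mw w) (mw w')) 40) 40
  · rw [h4, cond_false] at h
    exact Or.inr (Nat.eq_of_beq_eq_true h)
  · exact Or.inl (Nat.eq_of_beq_eq_true h4)

/-- the three elements -/
noncomputable def E3 : Finset (KK W0) := by
  classical
  exact {r k 3, r k 40, r k 43}

theorem mem_E3 {x : KK W0} : x ∈ (E3 : Set (KK W0)) ↔ x = r k 3 ∨ x = r k 40 ∨ x = r k 43 := by
  classical
  simp [E3]

theorem card_E3 : E3.card ≤ 3 := by
  classical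
  exact Finset.card_le_three

theorem mem_norm_of {G : Type*} [Group G] {S : Set G} {g : G} (h1 : ∀ x ∈ S, g * x * g⁻¹ ∈ S)
    (h2 : ∀ x ∈ S, g⁻¹ * x * g ∈ S) : g ∈ normalizer S := by
  rw [mem_set_normalizer_iff]
  intro x
  refine ⟨h1 x, fun hx => ?_⟩
  have h3 := h2 _ hx
  have e : g⁻¹ * (g * x * g⁻¹) * g = x := by group
  rwa [e] at h3

/-- inclusion of a finite set suffices -/
theorem mem_norm_of_finite {G : Type*} [Group G] {S : Set G} (hS : S.Finite) {g : G} (h : ∀ x ∈ S, g⁻¹ * x * g ∈ S) :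
    g ∈ normalizer S := by
  refine mem_norm_of ?_ h
  have hinj : Set.InjOn (fun x => g⁻¹ * x * g) S := fun a _ b _ he => by
    have he' : g⁻¹ * a * g = g⁻¹ * b * g := he
    exact mul_left_cancel (mul_right_cancel he')
  have himg : (fun x => g⁻¹ * x * g) '' S = S := by
    apply Set.eq_of_subset_of_ncard_le _ _ hS
    · rintro _ ⟨x, hx, rfl⟩
      exact h x hx
    · rw [hinj.ncard_image]
  intro x hx
  rw [← himg] at hx
  obtain ⟨y, hy, rfl⟩ := hx
  show g * (g⁻¹ * y * g) * g⁻¹ ∈ S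
  have e : g * (g⁻¹ * y * g) * g⁻¹ = y := by group
  rw [e]
  exact hy

theorem C3_le : centralizer ({r3} : Set (KK W0)) ≤ normalizer (E3 : Set (KK W0)) := by
  intro x hx
  rw [mem_centralizer_singleton_iff] at hx
  obtain ⟨w, hw, w', hw', h⟩ := exists_acts x
  have h3 : x⁻¹ * r k 3 * x = r k (app (mul (mw w) (mw w')) 3) := hyp.toBas.acts_r h 3
  have h4 : x⁻¹ * r k 40 * x = r k (app (mul (mw w) (mw w')) 40) := hyp.toBas.acts_r h 40
  have h5 : x⁻¹ * r k 43 * x = r k (app (mul (mw w) (mw w')) 43) := hyp.toBas.acts_r h 43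
  have h6 : x⁻¹ * r k 3 * x = r k 3 := by
    have hx' : x * r k 3 = r k 3 * x := hx
    rw [mul_assoc, ← hx', inv_mul_cancel_left]
  have h7 : app (mul (mw w) (mw w')) 3 = 3 :=
    hyp.toBas.r_inj (app_lt _ _) (by norm_num) (h3.symm.trans h6)
  have h8 : app (mul (mw w) (mw w')) 43 = app (mul (mw w) (mw w')) 40 ^^^ 3 := by
    have h9 := app_xor (mul (mw w) (mw w')) 40 3
    rw [h7] at h9
    exact h9
  refine mem_norm_of_finite (Finset.finite_toSet _) fun y hy => ?_
  rw [mem_E3] at hy ⊢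
  rcases hy with rfl | rfl | rfl
  · exact Or.inl h6
  · rw [h4]
    rcases app40 hw hw' h7 with h9 | h9
    · exact Or.inr (Or.inl (by rw [h9]))
    · exact Or.inr (Or.inr (by rw [h9]))
  · rw [h5, h8]
    rcases app40 hw hw' h7 with h9 | h9
    · exact Or.inr (Or.inr (by rw [h9]; rfl))
    · exact Or.inr (Or.inl (by rw [h9]; rfl))

/-- `y` permutes `3, 40, 43` -/
theorem y_mem : evw γ [0] ∈ normalizer (E3 : Set (KK W0)) := by
  refine mem_norm_of_finite (Finset.finite_toSet _) fun y hy => ?_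
  rw [mem_E3] at hy ⊢
  rcases hy with rfl | rfl | rfl
  · exact Or.inr (Or.inl (by rw [conj_word]; congr 1))
  · exact Or.inr (Or.inr (by rw [conj_word]; congr 1))
  · exact Or.inl (by rw [conj_word]; congr 1)

/-! ### a 2-group fixing only the mask `3` -/

def wa : List ℕ := [0, 1, 0, 1, 0, 1]
def wb : List ℕ := [0, 0, 1, 2, 1, 1, 0, 2, 1]

theorem chkF : allB (fun m => bif Nat.beq (app (mw wa) m) m then (bif Nat.beq (app (mw wb) m) m then
    (bif Nat.beq m 0 then true else Nat.beq m 3) else true) else true) 256 = true := by decide +kernel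

theorem fix_ab {m : ℕ} (hm : m < 256) (ha : app (mw wa) m = m) (hb : app (mw wb) m = m) : m = 0 ∨ m = 3 := by
  have h := (allB_iff _ _).1 chkF m hm
  have h1 : Nat.beq (app (mw wa) m) m = true := by rw [ha]; exact Nat.beq_refl m
  have h2 : Nat.beq (app (mw wb) m) m = true := by rw [hb]; exact Nat.beq_refl m
  rw [h1, h2, cond_true, cond_true] at h
  cases h4 : Nat.beq m 0
  · rw [h4, cond_false] at h
    exact Or.inr (Nat.eq_of_beq_eq_true h)
  · exact Or.inl (Nat.eq_of_beq_eq_true h4)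

theorem fa3 : app (mw wa) 3 = 3 := by decide +kernel
theorem fb3 : app (mw wb) 3 = 3 := by decide +kernel

theorem e_aa : e wa * e wa = 1 := by rw [← e_append, ← e_nil]; exact e_eq (by decide +kernel)
theorem e_bb : e wb * e wb = 1 := by rw [← e_append, ← e_nil]; exact e_eq (by decide +kernel)
theorem e_ab : (e wa * e wb) ^ 4 = 1 := by
  rw [pow_succ, pow_succ, pow_two, ← e_append, ← e_append, ← e_append, ← e_append, ← e_nil]
  exact e_eq (by decide +kernel)

/-- the dihedral group -/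
theorem isPGroup_D : IsPGroup 2 ↥(closure ({e wa, e wb} : Set Lq)) := by
  have := finite_HN
  have hF : Fact (Nat.Prime 2) := ⟨Nat.prime_two⟩
  have hai : (e wa)⁻¹ = e wa := inv_eq_of_mul_eq_one_left e_aa
  have hbi : (e wb)⁻¹ = e wb := inv_eq_of_mul_eq_one_left e_bb
  have h1 : IsPiSubgroup ({2} : Set ℕ) (zpowers (e wa * e wb)) := by
    intro q hq hd
    rw [Nat.card_zpowers] at hd
    have h2 := hd.trans (orderOf_dvd_of_pow_eq_one e_ab)
    have h3 : (4 : ℕ) = 2 ^ 2 := by norm_num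
    rw [h3] at h2
    exact (Nat.prime_dvd_prime_iff_eq hq Nat.prime_two).1 (hq.dvd_of_dvd_pow h2)
  have h2 : IsPiSubgroup ({2} : Set ℕ) (zpowers (e wa)) :=
    isPi_zpowers Nat.prime_two rfl (by rw [pow_two, e_aa])
  have h3 : zpowers (e wa) ≤ normalizer (zpowers (e wa * e wb) : Set Lq) := by
    rw [zpowers_le]
    refine mem_normalizer_of_conj fun q hq => ?_
    obtain ⟨i, rfl⟩ := mem_zpowers_iff.1 hq
    refine mem_zpowers_iff.2 ⟨-i, ?_⟩
    have h4 : e wa * (e wa * e wb) * (e wa)⁻¹ = (e wa * e wb)⁻¹ := by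
      rw [mul_inv_rev, hai, hbi, ← mul_assoc, e_aa, one_mul]
    rw [← MulAut.conj_apply, map_zpow, MulAut.conj_apply, h4, inv_zpow, zpow_neg]
  have h5 := isPi_sup h3 h2 h1
  have h6 : closure ({e wa, e wb} : Set Lq) ≤ zpowers (e wa) ⊔ zpowers (e wa * e wb) := by
    rw [closure_le]
    have h7 : e wa ∈ zpowers (e wa) ⊔ zpowers (e wa * e wb) := mem_sup_left (mem_zpowers _)
    have h8 : e wa * e wb ∈ zpowers (e wa) ⊔ zpowers (e wa * e wb) := mem_sup_right (mem_zpowers _)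
    rintro x (rfl | rfl)
    · exact h7
    · have h9 := mul_mem (inv_mem h7) h8
      rwa [inv_mul_cancel_left] at h9
  have h7 := isPi_of_le h5 h6
  have h8 : Nat.card (closure ({e wa, e wb} : Set Lq)) =
      2 ^ (Nat.card (closure ({e wa, e wb} : Set Lq))).primeFactorsList.length :=
    Nat.eq_prime_pow_of_unique_prime_dvd Nat.card_pos.ne' fun {d} hd hdd => h7 d hd hdd
  exact IsPGroup.of_card h8

end Cfsg.Agent.H841.PiBS.HN
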