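import Cfsg.Agent.H841.PiBS.Sieve

/-!
# S3876: descent to the normaliser of a weakly closed subgroup (helper841)
-/

set_option autoImplicit false

namespace Cfsg.Agent.H841.PiBS

open Cfsg Subgroup

universe u v

theorem card_comap_mul {G : Type u} {G' : Type v} [Group G] [Group G'] (f : G →* G') (hf : Function.Surjective f)
    (U : Subgroup G') : Nat.card (U.comap f) = Nat.card U * Nat.card f.ker := by
  let φ : U.comap f →* U := f.subgroupComap U
  have hφ : Function.Surjective φ := f.subgroupComap_surjective_of_surjective U hf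
  have h2 := Subgroup.card_eq_card_quotient_mul_card_subgroup φ.ker
  rw [Nat.card_congr (QuotientGroup.quotientKerEquivOfSurjective φ hφ).toEquiv] at h2
  rw [h2]
  congr 1
  refine Nat.card_congr ⟨fun x => ⟨(x : U.comap f), ?_⟩, fun x => ⟨⟨(x : G), ?_⟩, ?_⟩, ?_, ?_⟩
  · have h3 : φ x = 1 := x.2
    exact congrArg Subtype.val h3
  · show f (x : G) ∈ U
    have h3 : f (x : G) = 1 := x.2
    rw [h3]; exact one_mem _
  · exact Subtype.ext x.2
  · intro x; rfl
  · intro x; rfl

theorem isPi_comap {π : Set ℕ} {G : Type u} {G' : Type v} [Group G] [Group G'] (f : G →* G')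
    (hf : Function.Surjective f) (hk : IsPiSubgroup π f.ker) {U : Subgroup G'} (hU : IsPiSubgroup π U) :
    IsPiSubgroup π (U.comap f) := by
  intro p hp hd
  rw [card_comap_mul f hf] at hd
  rcases hp.dvd_mul.1 hd with h2 | h2
  · exact hU p hp h2
  · exact hk p hp h2

/-- `DT` goes up modulo a normal π-subgroup -/
theorem DT.comap {π : Set ℕ} {G : Type u} {G' : Type v} [Group G] [Group G'] (h : DT π G') (f : G →* G')
    (hf : Function.Surjective f) (hk : IsPiSubgroup π f.ker) : DT π G := by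
  obtain ⟨H, hH, hU⟩ := h
  refine ⟨H.comap f, ⟨isPi_comap f hf hk hH.pi, by rw [index_comap_of_surjective H hf]; exact hH.odd⟩,
    fun U hUo => ?_⟩
  obtain ⟨g', hg'⟩ := hU (U.map f) ⟨isPi_map hUo.pi f, fun hd => hUo.odd (hd.trans (index_map_dvd U hf))⟩
  obtain ⟨g, rfl⟩ := hf g'
  refine ⟨g, ?_⟩
  rintro _ ⟨x, hx, rfl⟩
  show f (g * x * g⁻¹) ∈ H
  refine hg' ⟨f x, ⟨x, hx, rfl⟩, ?_⟩
  show f g * f x * (f g)⁻¹ = _
  rw [map_mul, map_mul, map_inv]

/-- `DT` passes to `N ≥ A`, `A ⊴ N` a 2-group whose conjugates in `N` are those under `N` -/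
theorem DT.descend_weak {π : Set ℕ} {G : Type u} [Group G] [Finite G] (h : DT π G) {A N : Subgroup G}
    (hA : IsPGroup 2 A) (_hAN : A ≤ N) (hN : N ≤ normalizer (A : Set G)) (hodd : ¬ 2 ∣ N.index)
    (hw : ∀ g : G, A.map (MulAut.conj g).toMonoidHom ≤ N → g ∈ N) : DT π N := by
  have hf : Fact (Nat.Prime 2) := ⟨Nat.prime_two⟩
  obtain ⟨T, hT⟩ := exists_sylow_le hodd
  refine h.descend T hT fun g hg => hw g ?_
  have hAT : A ≤ (T : Subgroup G) := by
    have h2 : IsPGroup 2 ((T : Subgroup G) ⊔ A : Subgroup G) :=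
      T.isPGroup'.to_sup_of_normal_right' hA (hT.trans hN)
    have h3 := T.is_maximal' h2 le_sup_left
    exact (le_sup_right : A ≤ (T : Subgroup G) ⊔ A).trans h3.le
  rintro _ ⟨x, hx, rfl⟩
  exact hT ((mem_normalizer_iff.1 hg x).1 (hAT hx))

/-- `A` elementary abelian, the only one of its order in `N(A)` -/
structure UN {G : Type u} [Group G] (A : Subgroup G) : Prop where
  sq : ∀ x ∈ A, x * x = 1
  uniq : ∀ B : Subgroup G, B ≤ normalizer (A : Set G) → (∀ x ∈ B, x * x = 1) → Nat.card A ≤ Nat.card B → B = A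

theorem UN.isPGroup {G : Type u} [Group G] {A : Subgroup G} (h : UN A) : IsPGroup 2 A := by
  intro x
  refine ⟨1, Subtype.ext ?_⟩
  show (x : G) ^ (2 ^ 1) = 1
  rw [pow_one, pow_two]
  exact h.sq x x.2

theorem UN.mem {G : Type u} [Group G] [Finite G] {A : Subgroup G} (h : UN A) {g : G}
    (hg : A.map (MulAut.conj g).toMonoidHom ≤ normalizer (A : Set G)) : g ∈ normalizer (A : Set G) := by
  have h1 : A.map (MulAut.conj g).toMonoidHom = A := by
    refine h.uniq _ hg ?_ (card_map_conj A g).ge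
    rintro _ ⟨x, hx, rfl⟩
    show (g * x * g⁻¹) * (g * x * g⁻¹) = 1
    have e : (g * x * g⁻¹) * (g * x * g⁻¹) = g * (x * x) * g⁻¹ := by group
    rw [e, h.sq x hx, mul_one, mul_inv_cancel]
  refine mem_normalizer_of_conj fun q hq => ?_
  rw [← h1]
  exact ⟨q, hq, rfl⟩

theorem DT.descend_un {π : Set ℕ} {G : Type u} [Group G] [Finite G] (h : DT π G) {A : Subgroup G} (hA : UN A)
    (hodd : ¬ 2 ∣ (normalizer (A : Set G)).index) : DT π (normalizer (A : Set G)) :=
  h.descend_weak hA.isPGroup le_normalizer le_rfl hodd fun _ hg => hA.mem hg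

/-- the version inside a subgroup `C ≥ A` -/
theorem DT.descend_un_in {π : Set ℕ} {G : Type u} [Group G] [Finite G] {A C : Subgroup G} (h : DT π C)
    (hA : UN A) (hAC : A ≤ C) (hodd : ¬ 2 ∣ ((normalizer (A : Set G)).subgroupOf C).index) :
    DT π ((normalizer (A : Set G)).subgroupOf C) := by
  refine h.descend_weak (A := A.subgroupOf C) (hA.isPGroup.comap_of_injective C.subtype C.subtype_injective)
    (comap_mono le_normalizer) ?_ hodd ?_
  · intro x hx
    refine mem_normalizer_of_conj fun q hq => ?_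
    exact (mem_normalizer_iff.1 (mem_subgroupOf.1 hx) (q : G)).1 (mem_subgroupOf.1 hq)
  · intro g hg
    rw [mem_subgroupOf]
    refine hA.mem ?_
    rintro _ ⟨x, hx, rfl⟩
    have h1 := hg ⟨⟨x, hAC hx⟩, hx, rfl⟩
    exact mem_subgroupOf.1 h1

end Cfsg.Agent.H841.PiBS
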