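import Cfsg.Agent.H841.PiBS.HNA
import Cfsg.Agent.H841.PiBS.Weak

/-!
# S3876: the row `HN`, II: the 2-local subgroups (helper841)

`seven_mem` : `2, 3 ∈ π` and `DT π HN` imply `7 ∈ π`. `good_of_five` : if `5 ∈ π` then `HN` is a π-group.
-/

set_option autoImplicit false

namespace Cfsg.Agent.H841.PiBS.HN

open Cfsg Subgroup
open Cfsg.Agent.HN.XMat Cfsg.Agent.HN.XStruct Cfsg.Agent.HN.XWords Cfsg.Agent.HN.XQuot Cfsg.Agent.HN.FusGen
open Cfsg.Agent.HN.XInst Cfsg.Agent.HN.Pres Cfsg.Agent.HN.H0Basic Cfsg.Agent.HN.P1408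
open Cfsg.Agent.KFacts.HN
open Cfsg.Agent.KFacts.HN.CentTwoHN (z' n n_W0 n_z' z'_sq z'_comm z'_ne)
open Cfsg.Agent.H861.PiS (VV normalizer_le)

abbrev G : Type := Cfsg.Spor.HN

instance fin_G : Finite G := finite_HN

theorem isPi_of_sq' {π : Set ℕ} (h2 : 2 ∈ π) {G : Type*} [Group G] [Finite G] {K : Subgroup G}
    (h : ∀ x ∈ K, x * x = 1) : IsPiSubgroup π K := by
  have hf : Fact (Nat.Prime 2) := ⟨Nat.prime_two⟩
  refine isPi_of_pGroup (p := 2) h2 fun x => ⟨1, Subtype.ext ?_⟩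
  show (x : G) ^ (2 ^ 1) = 1
  rw [pow_one, pow_two]
  exact h x x.2

/-! ### elements of prime order `> 3` acting on three points -/

theorem comm_of_small {H : Type*} [Group H] {X : Finset H} (hX : X.card ≤ 3) {g : H}
    (hg : g ∈ normalizer (X : Set H)) {p : ℕ} (hp : p.Prime) (hp3 : 3 < p) (hgo : orderOf g = p) {z : H} (hz : z ∈ X) :
    g * z = z * g := by
  classical
  have hmem : ∀ i : ℕ, g ^ i * z * (g ^ i)⁻¹ ∈ X := fun i =>
    (mem_set_normalizer_iff.1 (pow_mem hg i) z).1 hz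
  obtain ⟨i, -, j, -, hij, he⟩ := Finset.exists_ne_map_eq_of_card_lt_of_maps_to
    (s := (Finset.univ : Finset (Fin 4))) (t := X)
    (by
      rw [Finset.card_univ, Fintype.card_fin]
      exact lt_of_le_of_lt hX (by norm_num))
    (f := fun i : Fin 4 => g ^ (i : ℕ) * z * (g ^ (i : ℕ))⁻¹) (fun i _ => hmem i)
  have key : ∀ a b : ℕ, a < b → b < 4 → g ^ a * z * (g ^ a)⁻¹ = g ^ b * z * (g ^ b)⁻¹ → g * z = z * g := by
    intro a b hab hb h1
    have h4 : g ^ b = g ^ a * g ^ (b - a) := by rw [← pow_add]; congr 1; omega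
    have h5 : g ^ (b - a) * z = z * g ^ (b - a) := by
      rw [h4] at h1
      have h6 : z = g ^ (b - a) * z * (g ^ (b - a))⁻¹ := by
        have h7 := congrArg (fun y => (g ^ a)⁻¹ * y * g ^ a) h1
        simpa [mul_assoc] using h7
      calc g ^ (b - a) * z = (g ^ (b - a) * z * (g ^ (b - a))⁻¹) * g ^ (b - a) := by group
        _ = z * g ^ (b - a) := by rw [← h6]
    have hco : (b - a).Coprime (orderOf g) := by
      rw [hgo]
      exact ((Nat.Prime.coprime_iff_not_dvd hp).2 (fun h6 => by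
        have h7 := Nat.le_of_dvd (by omega) h6
        omega)).symm
    obtain ⟨m, hm⟩ := exists_pow_eq_self_of_coprime hco
    have h6 : g ∈ centralizer ({z} : Set H) := by
      rw [← hm]
      exact pow_mem (mem_centralizer_singleton_iff.2 h5) m
    exact mem_centralizer_singleton_iff.1 h6
  rcases lt_or_gt_of_ne (fun h1 : (i : ℕ) = j => hij (Fin.ext h1)) with h1 | h1
  · exact key i j h1 j.2 he
  · exact key j i h1 i.2 he.symm

theorem isPi_norm3 {H : Type*} [Group H] [Finite H] {π : Set ℕ} (h2 : 2 ∈ π) (h3 : 3 ∈ π) {X : Finset H}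
    (hX : X.card ≤ 3) {K : Subgroup H} (hK : IsPiSubgroup π K) (h : ∀ g : H, (∀ x ∈ X, g * x = x * g) → g ∈ K) :
    IsPiSubgroup π (normalizer (X : Set H)) := by
  intro p hp hd
  have hpf : Fact p.Prime := ⟨hp⟩
  by_cases hp2 : p = 2
  · rwa [hp2]
  by_cases hp3 : p = 3
  · rwa [hp3]
  have hp5 : 3 < p := by
    have h1 := hp.two_le
    omega
  obtain ⟨⟨g, hg⟩, hgo⟩ := exists_prime_orderOf_dvd_card' p hd
  have hgo' : orderOf g = p := by rw [← hgo, Subgroup.orderOf_mk]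
  have h6 : g ∈ K := h g fun x hx => comm_of_small hX hg hp hp5 hgo' hx
  refine hK p hp ?_
  rw [← hgo', ← Subgroup.orderOf_mk g h6]
  exact orderOf_dvd_natCard _

/-! ### the group `K = N(⟨W0, z'⟩) ∩ C(W0)` -/

/-- the projection -/
noncomputable def q : PP →* KK W0 :=
  (QuotientGroup.mk' (Zw W0) : ↥(centralizer ({W0} : Set G)) →* KK W0)

theorem q_surj : Function.Surjective q :=
  (QuotientGroup.mk'_surjective (Zw W0) : Function.Surjective
    (QuotientGroup.mk' (Zw W0) : ↥(centralizer ({W0} : Set G)) →* KK W0))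

theorem q_apply (u : PP) : q u = π W0 (u : G) := by
  rw [π_of (mem_PP.1 u.2)]
  rfl

theorem q_z : q ⟨z', r_mem_PP 3⟩ = r3 := by
  rw [q_apply]
  exact π_r 3

noncomputable def K0 : Subgroup PP := (centralizer ({r3} : Set (KK W0))).comap q

noncomputable def K : Subgroup G := K0.map PP.subtype

theorem mem_K {u : G} : u ∈ K ↔ ∃ h : u ∈ PP, q ⟨u, h⟩ * r3 = r3 * q ⟨u, h⟩ := by
  constructor
  · rintro ⟨v, hv, rfl⟩
    exact ⟨v.2, mem_centralizer_singleton_iff.1 hv⟩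
  · rintro ⟨h, h1⟩
    exact ⟨⟨u, h⟩, mem_centralizer_singleton_iff.2 h1, rfl⟩

theorem K_le_PP : K ≤ PP := fun _ h => (mem_K.1 h).1

/-- equal images -/
theorem eq_of_q {u v : PP} (h : q u = q v) : (v : G) = u ∨ (v : G) = u * W0 := by
  obtain ⟨b, hb⟩ := eq_of_π u.2 v.2 (by rw [← q_apply, ← q_apply, h])
  cases b
  · left; rw [hb]; exact mul_one _
  · right; exact hb

theorem mem_K' {u : G} : u ∈ K ↔ u * W0 = W0 * u ∧ (u * z' * u⁻¹ = z' ∨ u * z' * u⁻¹ = z' * W0) := by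
  rw [mem_K]
  constructor
  · rintro ⟨h, h1⟩
    refine ⟨mem_PP.1 h, ?_⟩
    have h2 : q ⟨z', r_mem_PP 3⟩ = q (⟨u, h⟩ * ⟨z', r_mem_PP 3⟩ * ⟨u, h⟩⁻¹) := by
      rw [map_mul, map_mul, map_inv, q_z, h1, mul_inv_cancel_right]
    exact eq_of_q h2
  · rintro ⟨h, h1⟩
    refine ⟨mem_PP.2 h, ?_⟩
    have hu : u ∈ PP := mem_PP.2 h
    have h2 : q (⟨u, hu⟩ * ⟨z', r_mem_PP 3⟩ * ⟨u, hu⟩⁻¹) = q ⟨z', r_mem_PP 3⟩ := by
      rcases h1 with h1 | h1
      · congr 1
        exact Subtype.ext h1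
      · have h3 : (⟨u, hu⟩ * ⟨z', r_mem_PP 3⟩ * ⟨u, hu⟩⁻¹ : PP) = ⟨z', r_mem_PP 3⟩ * ⟨W0, W0_mem_PP⟩ :=
          Subtype.ext h1
        have h4 : q ⟨W0, W0_mem_PP⟩ = 1 := by
          rw [q_apply]
          exact π_w W0_sq
        rw [h3, map_mul, h4, mul_one]
    rw [map_mul, map_mul, map_inv, q_z] at h2
    exact mul_inv_eq_iff_eq_mul.1 h2

theorem card_G : Nat.card G = 273030912000000 := Cfsg.Agent.S1701.result.2

theorem index_PP : PP.index = 74064375 := by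
  have h1 := PP.card_mul_index
  rw [card_PP, card_G] at h1
  omega

theorem index_K : K.index = 5554828125 := by
  rw [K, index_map_subtype, index_PP, K0, index_comap_of_surjective _ q_surj, index_C3]

theorem card_K : Nat.card K = 49152 := by
  have h1 := K.card_mul_index
  rw [index_K, card_G] at h1
  exact Nat.eq_of_mul_eq_mul_right (show 0 < 5554828125 by norm_num) (h1.trans (by norm_num))

theorem odd_K : ¬ 2 ∣ K.index := by rw [index_K]; norm_num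

variable {π : Set ℕ}

theorem isPi_of_card {H : Type*} [Group H] {A : Subgroup H} {a b : ℕ} (h2 : 2 ∈ π) (h3 : 3 ∈ π)
    (h : Nat.card A = 2 ^ a * 3 ^ b) : IsPiSubgroup π A := by
  intro p hp hd
  rw [h] at hd
  rcases hp.dvd_mul.1 hd with h4 | h4
  · rw [(Nat.prime_dvd_prime_iff_eq hp Nat.prime_two).1 (hp.dvd_of_dvd_pow h4)]; exact h2
  · rw [(Nat.prime_dvd_prime_iff_eq hp Nat.prime_three).1 (hp.dvd_of_dvd_pow h4)]; exact h3

theorem isPi_K (h2 : 2 ∈ π) (h3 : 3 ∈ π) : IsPiSubgroup π K :=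
  isPi_of_card (a := 14) (b := 1) h2 h3 (by rw [card_K]; norm_num)

theorem isPi_C3 (h2 : 2 ∈ π) (h3 : 3 ∈ π) : IsPiSubgroup π (centralizer ({r3} : Set (KK W0))) :=
  isPi_of_card (a := 13) (b := 1) h2 h3 (by rw [card_C3]; norm_num)

/-! ### `N(⟨W0, z'⟩)` -/

theorem z'W0_sq : z' * W0 * (z' * W0) = 1 := by
  have h1 := z'_comm
  calc z' * W0 * (z' * W0) = z' * (W0 * z') * W0 := by group
    _ = z' * (z' * W0) * W0 := by rw [h1]
    _ = (z' * z') * (W0 * W0) := by group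
    _ = 1 := by rw [z'_sq, W0_W0, one_mul]

/-- the three involutions -/
noncomputable def V3 : Finset G := by
  classical
  exact {W0, z', z' * W0}

theorem mem_V3 {x : G} : x ∈ (V3 : Set G) ↔ x = W0 ∨ x = z' ∨ x = z' * W0 := by
  classical
  simp [V3]

theorem card_V3 : V3.card ≤ 3 := by
  classical
  exact Finset.card_le_three

theorem isPi_U1 (h2 : 2 ∈ π) (h3 : 3 ∈ π) : IsPiSubgroup π (normalizer (V3 : Set G)) := by
  refine isPi_norm3 h2 h3 card_V3 (isPi_K h2 h3) fun g hg => mem_K'.2 ⟨hg _ ?_, Or.inl ?_⟩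
  · exact mem_V3.2 (Or.inl rfl)
  · rw [hg z' (mem_V3.2 (Or.inr (Or.inl rfl))), mul_inv_cancel_right]

theorem K_le_U1 : K ≤ normalizer (V3 : Set G) := by
  intro u hu
  have hu' := inv_mem hu
  rw [mem_K'] at hu hu'
  rw [inv_inv] at hu'
  refine mem_norm_of_finite (Finset.finite_toSet _) fun y hy => ?_
  have h1 : u⁻¹ * W0 * u = W0 := by rw [hu'.1, inv_mul_cancel_right]
  rw [mem_V3] at hy ⊢
  rcases hy with rfl | rfl | rfl
  · exact Or.inl h1
  · exact Or.inr hu'.2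
  · have h2 : u⁻¹ * (z' * W0) * u = (u⁻¹ * z' * u) * (u⁻¹ * W0 * u) := by group
    rw [h2, h1]
    rcases hu'.2 with h3 | h3
    · exact Or.inr (Or.inr (by rw [h3]))
    · refine Or.inr (Or.inl ?_)
      rw [h3, mul_assoc, W0_W0, mul_one]

theorem n_mem_U1 : n ∈ normalizer (V3 : Set G) := by
  rw [← inv_inv n]
  refine inv_mem (mem_norm_of_finite (Finset.finite_toSet _) fun y hy => ?_)
  rw [inv_inv]
  have h1 : n * W0 * n⁻¹ = z' := by rw [n_W0, mul_inv_cancel_right]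
  have h2 : n * z' * n⁻¹ = z' * W0 := by rw [n_z', mul_inv_cancel_right, z'_comm]
  rw [mem_V3] at hy ⊢
  rcases hy with rfl | rfl | rfl
  · exact Or.inr (Or.inl h1)
  · exact Or.inr (Or.inr h2)
  · left
    have h3 : n * (z' * W0) * n⁻¹ = (n * z' * n⁻¹) * (n * W0 * n⁻¹) := by group
    rw [h3, h1, h2, mul_assoc, z'_comm, ← mul_assoc, z'_sq, one_mul]

/-! ### `N(E)` -/

noncomputable def U2 : Subgroup G := ((normalizer (E3 : Set (KK W0))).comap q).map PP.subtype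

theorem isPi_q_ker (h2 : 2 ∈ π) : IsPiSubgroup π q.ker := by
  refine isPi_of_sq' h2 fun x hx => ?_
  have h1 : q 1 = q x := by rw [map_one]; exact (MonoidHom.mem_ker.1 hx).symm
  rcases eq_of_q h1 with h3 | h3
  · have h4 : x = 1 := Subtype.ext h3
    rw [h4, one_mul]
  · have h4 : (x : G) = W0 := by rw [h3]; exact one_mul _
    refine Subtype.ext ?_
    show (x : G) * x = 1
    rw [h4, W0_W0]

theorem isPi_U2 (h2 : 2 ∈ π) (h3 : 3 ∈ π) : IsPiSubgroup π U2 := by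
  have := finite_HN
  refine isPi_map (isPi_comap q q_surj (isPi_q_ker h2) ?_) PP.subtype
  refine isPi_norm3 h2 h3 card_E3 (isPi_C3 h2 h3) fun g hg => ?_
  exact mem_centralizer_singleton_iff.2 (hg _ (mem_E3.2 (Or.inl rfl)))

theorem K_le_U2 : K ≤ U2 := map_mono (comap_mono C3_le)

theorem y_mem_U2 : evw Γ [0] ∈ U2 := by
  refine ⟨⟨evw Γ [0], e_mem_PP _⟩, ?_, rfl⟩
  show q ⟨evw Γ [0], e_mem_PP _⟩ ∈ normalizer (E3 : Set (KK W0))
  rw [q_apply]
  show π W0 (evw Γ [0]) ∈ _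
  rw [π_e]
  exact y_mem

/-! ### a Sylow 2-subgroup -/

/-- the 2-subgroup of `K` -/
noncomputable def P0 : Subgroup G := ((closure ({e wa, e wb} : Set Lq)).comap ρ).map PP.subtype

theorem isPGroup_P0 : IsPGroup 2 P0 := by
  refine IsPGroup.map (IsPGroup.comap_of_ker_isPGroup isPGroup_D ρ ?_) PP.subtype
  refine IsPGroup.of_card (n := 9) ?_
  have h1 : Nat.card RS = Nat.card ρ.ker :=
    (Nat.card_congr (ρ.ker.equivMapOfInjective PP.subtype PP.subtype_injective).toEquiv).symm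
  rw [← h1, card_RS]; norm_num

theorem comm_word {w : List ℕ} {m : ℕ} (h : app (mw w) m = m) : evw γ w * r k m = r k m * evw γ w := by
  have h1 := conj_word w m
  rw [h] at h1
  rw [mul_assoc, inv_mul_eq_iff_eq_mul] at h1
  exact h1.symm

theorem ρ_q (u : PP) : ρ u = QuotientGroup.mk (s := Rk) (q u) := by rw [ρ_apply, q_apply]

theorem P0_le_K : P0 ≤ K := by
  refine map_mono ?_
  have hR : Rk ≤ centralizer ({r3} : Set (KK W0)) := by
    intro x hx
    obtain ⟨m, hm, rfl⟩ := mem_Rk.1 hx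
    exact mem_centralizer_singleton_iff.2 (hyp.toBas.r_comm m 3)
  have h1 : closure ({e wa, e wb} : Set Lq) ≤ (centralizer ({r3} : Set (KK W0))).map (QuotientGroup.mk' Rk) := by
    rw [closure_le]
    rintro x (rfl | rfl)
    · exact ⟨evw γ wa, mem_centralizer_singleton_iff.2 (comm_word fa3), rfl⟩
    · exact ⟨evw γ wb, mem_centralizer_singleton_iff.2 (comm_word fb3), rfl⟩
  intro u hu
  obtain ⟨y, hy, hyu⟩ := h1 hu
  rw [ρ_q] at hyu
  have h2 : (QuotientGroup.mk y : Lq) = QuotientGroup.mk (q u) := hyu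
  rw [QuotientGroup.eq] at h2
  have h3 : q u = y * (y⁻¹ * q u) := by group
  show q u ∈ centralizer ({r3} : Set (KK W0))
  rw [h3]
  exact mul_mem hy (hR h2)

theorem evw_mem_P0 {w : List ℕ} (h : e w ∈ closure ({e wa, e wb} : Set Lq)) : evw Γ w ∈ P0 :=
  ⟨⟨evw Γ w, e_mem_PP w⟩, by
    show ρ ⟨evw Γ w, e_mem_PP w⟩ ∈ closure ({e wa, e wb} : Set Lq)
    rw [ρ_e]; exact h, rfl⟩

theorem RS_le_P0 : RS ≤ P0 := map_mono (by
  intro x hx
  show ρ x ∈ closure ({e wa, e wb} : Set Lq)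
  rw [MonoidHom.mem_ker.1 hx]
  exact one_mem _)

theorem exists_T : ∃ T : Sylow 2 G, P0 ≤ T ∧ (T : Subgroup G) ≤ K := by
  have hF : Fact (Nat.Prime 2) := ⟨Nat.prime_two⟩
  have h1 : IsPGroup 2 (P0.subgroupOf K) := isPGroup_P0.comap_subtype
  obtain ⟨Q, hQ⟩ := h1.exists_le_sylow
  have hP : IsPGroup 2 ↥((Q : Subgroup K).map K.subtype) := Q.isPGroup'.map _
  have hc : ¬ 2 ∣ ((Q : Subgroup K).map K.subtype).index := by
    rw [index_map_subtype, Nat.prime_two.dvd_mul, not_or]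
    exact ⟨Q.not_dvd_index, odd_K⟩
  refine ⟨hP.toSylow hc, ?_, ?_⟩
  · intro x hx
    exact ⟨⟨x, P0_le_K hx⟩, hQ (mem_subgroupOf.2 hx), rfl⟩
  · exact map_subtype_le _

theorem normalizer_le_K {T : Sylow 2 G} (h0 : P0 ≤ T) (hK : (T : Subgroup G) ≤ K) :
    normalizer ((T : Subgroup G) : Set G) ≤ K := by
  have hTW : ∀ t ∈ (T : Subgroup G), t * W0 = W0 * t := fun t ht => mem_PP.1 (K_le_PP (hK ht))
  intro x hx
  have hxP : x ∈ PP := normalizer_le large T hTW hx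
  have hz : x * z' * x⁻¹ ∈ RS := conj_RS hxP (r_mem_RS (by norm_num))
  obtain ⟨m, hm, b, hmb⟩ := mem_RS.1 hz
  have hq : q ⟨x, hxP⟩ * r3 * (q ⟨x, hxP⟩)⁻¹ = r k m := by
    rw [← q_z, ← map_mul, ← map_inv, ← map_mul, q_apply]
    show π W0 (x * z' * x⁻¹) = _
    rw [hmb, π_r_sgn]
  -- elements of `T` commute with `r k m`
  have hcom : ∀ t (ht : t ∈ (T : Subgroup G)), q ⟨t, K_le_PP (hK ht)⟩ * r k m = r k m * q ⟨t, K_le_PP (hK ht)⟩ := by
    intro t ht
    have ht' : x⁻¹ * t * x ∈ (T : Subgroup G) := by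
      have h1 := (mem_normalizer_iff.1 (inv_mem hx) t).1 ht
      rwa [inv_inv] at h1
    obtain ⟨h1, h2⟩ := mem_K.1 (hK ht')
    have h3 : q ⟨t, K_le_PP (hK ht)⟩ = q ⟨x, hxP⟩ * q ⟨x⁻¹ * t * x, h1⟩ * (q ⟨x, hxP⟩)⁻¹ := by
      rw [← map_mul, ← map_inv, ← map_mul]
      congr 1
      refine Subtype.ext ?_
      show t = x * (x⁻¹ * t * x) * x⁻¹
      group
    rw [h3, ← hq]
    calc q ⟨x, hxP⟩ * q ⟨x⁻¹ * t * x, h1⟩ * (q ⟨x, hxP⟩)⁻¹ * (q ⟨x, hxP⟩ * r3 * (q ⟨x, hxP⟩)⁻¹)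
        = q ⟨x, hxP⟩ * (q ⟨x⁻¹ * t * x, h1⟩ * r3) * (q ⟨x, hxP⟩)⁻¹ := by group
      _ = q ⟨x, hxP⟩ * (r3 * q ⟨x⁻¹ * t * x, h1⟩) * (q ⟨x, hxP⟩)⁻¹ := by rw [h2]
      _ = _ := by group
  have hfix : ∀ w, e w ∈ closure ({e wa, e wb} : Set Lq) → app (mw w) m = m := by
    intro w hw
    have h1 := hcom _ (h0 (evw_mem_P0 hw))
    rw [q_apply] at h1
    have h2 : evw γ w * r k m = r k m * evw γ w := by rw [← π_e]; exact h1
    refine hyp.toBas.r_inj (app_lt _ _) hm ?_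
    rw [← conj_word, mul_assoc, ← h2, inv_mul_cancel_left]
  rcases fix_ab hm (hfix wa (subset_closure (Or.inl rfl))) (hfix wb (subset_closure (Or.inr rfl))) with h1 | h1
  · exfalso
    rw [h1, Bas.r_zero, mul_inv_eq_one, mul_eq_left] at hq
    have h2 : r k 3 = r k 0 := by rw [Bas.r_zero]; exact hq
    have h3 := hyp.toBas.r_inj (by norm_num) (by norm_num) h2
    omega
  · refine mem_K.2 ⟨hxP, ?_⟩
    rw [h1] at hq
    exact mul_inv_eq_iff_eq_mul.1 hq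

/-! ### the element of order divisible by 7 -/

def gw7 : List ℕ := [0, 4] ++ qw 6 ++ [2]

theorem g_eq : V gw7 = n * evw Γ [0] := by
  have h1 : evw Γ [0] = V [2] := mul_one _
  rw [h1, gw7, V_append, V_append]
  rfl

theorem g7 : V gw7 ^ 7 * W0 = W0 * V gw7 ^ 7 := by
  have h : V (gw7 ++ gw7 ++ gw7 ++ gw7 ++ gw7 ++ gw7 ++ gw7 ++ w0w) =
      V (w0w ++ (gw7 ++ gw7 ++ gw7 ++ gw7 ++ gw7 ++ gw7 ++ gw7)) := V_eq (by decide +kernel)
  simp only [V_append] at h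
  rw [pow_succ, pow_succ, pow_succ, pow_succ, pow_succ, pow_two]
  exact h

theorem g_ne : V gw7 * W0 ≠ W0 * V gw7 := by
  intro h
  have h1 : evw Γ [0] * W0 = W0 * evw Γ [0] := comm_e [0]
  rw [g_eq, mul_assoc, h1, ← mul_assoc, n_W0, mul_assoc, mul_left_inj] at h
  exact z'_ne h.symm

theorem seven_dvd : 7 ∣ orderOf (V gw7) := by
  by_contra hd
  have hco : Nat.Coprime 7 (orderOf (V gw7)) := (Nat.Prime.coprime_iff_not_dvd (by norm_num)).2 hd
  obtain ⟨m, hm⟩ := exists_pow_eq_self_of_coprime hco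
  have h6 : V gw7 ∈ centralizer ({W0} : Set G) := by
    rw [← hm]
    exact pow_mem (mem_centralizer_singleton_iff.2 g7) m
  exact g_ne (mem_centralizer_singleton_iff.1 h6)

theorem seven_mem (h2 : 2 ∈ π) (h3 : 3 ∈ π) (hG : DT π G) : 7 ∈ π := by
  obtain ⟨T, h0, hK⟩ := exists_T
  have hN : IsPiSubgroup π (normalizer ((T : Subgroup G) : Set G)) :=
    isPi_of_le (isPi_K h2 h3) (normalizer_le_K h0 hK)
  obtain ⟨H, hH, hU⟩ := hG.exists_ge T hN
  have hn : n ∈ H := hU _ (isPi_U1 h2 h3) (hK.trans K_le_U1) n_mem_U1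
  have hy : evw Γ [0] ∈ H := hU _ (isPi_U2 h2 h3) (hK.trans K_le_U2) y_mem_U2
  have hg : V gw7 ∈ H := by rw [g_eq]; exact mul_mem hn hy
  exact hH.pi 7 (by norm_num) (seven_dvd.trans (orderOf_dvd_natCard H hg))

/-- **`5 ∈ π`** -/
theorem good_of_five (h2 : 2 ∈ π) (h3 : 3 ∈ π) (h5 : 5 ∈ π) (hG : DT π G) : H861.PiS.PG π G := by
  obtain ⟨T, h0, hK⟩ := exists_T
  have hN : IsPiSubgroup π (normalizer ((T : Subgroup G) : Set G)) :=
    isPi_of_le (isPi_K h2 h3) (normalizer_le_K h0 hK)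
  obtain ⟨H, hH, hU⟩ := hG.exists_ge T hN
  have hn : n ∈ H := hU _ (isPi_U1 h2 h3) (hK.trans K_le_U1) n_mem_U1
  have hPP : PP ≤ H := by
    refine hU _ ?_ (hK.trans K_le_PP)
    intro p hp hd
    rw [card_PP, show (3686400 : ℕ) = 2 ^ 14 * 3 ^ 2 * 5 ^ 2 by norm_num] at hd
    rcases hp.dvd_mul.1 hd with h4 | h4
    · rcases hp.dvd_mul.1 h4 with h4 | h4
      · rw [(Nat.prime_dvd_prime_iff_eq hp Nat.prime_two).1 (hp.dvd_of_dvd_pow h4)]; exact h2
      · rw [(Nat.prime_dvd_prime_iff_eq hp Nat.prime_three).1 (hp.dvd_of_dvd_pow h4)]; exact h3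
    · rw [(Nat.prime_dvd_prime_iff_eq hp (by norm_num)).1 (hp.dvd_of_dvd_pow h4)]; exact h5
  have htop : H = ⊤ := by
    rw [eq_top_iff, ← CentTwoHN.hgen, closure_le]
    rintro x (hx | hx)
    · exact hPP (mem_PP.2 hx)
    · rw [Set.mem_singleton_iff.1 hx]; exact hn
  intro p hp hd
  have h4 := hH.pi
  rw [htop] at h4
  exact h4 p hp (by rwa [card_top])

end Cfsg.Agent.H841.PiBS.HN
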